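import Mathlib
import Cfsg.Agent.Lib.Helper47.T64.Defs
import Cfsg.Agent.Lib.Helper20.U3Syl

set_option autoImplicit false

/-! # Definitions for S2933 -/

namespace Cfsg.Agent.Lib.Helper47.T2933

open Cfsg.Agent.Lib.Helper54 (K4)
open Cfsg.Agent.Lib.Helper47.T64 (Heis Cfg sel)
open scoped commutatorElement

/-- `ρ` is a fixed-point-free automorphism of order 3, `t` an automorphism with `t² = 1` commuting with `ρ` and with
exactly 4 fixed points. -/
structure Hyp {T : Type*} [Group T] (ρ t : MulAut T) : Prop where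
  cube : ∀ g, ρ (ρ (ρ g)) = g
  fpf : ∀ g, ρ g = g → g = 1
  tsq : ∀ g, t (t g) = g
  tρ : ∀ g, t (ρ g) = ρ (t g)
  fix4 : Nat.card {g : T // t g = g} = 4

/-- the group on `R³` with product `(s,t,c)(s',t',c') = (s+s', t+t', c+c'+s t'+α s s'+γ t t')` -/
@[ext] structure HB {R : Type*} (α γ : R) where
  s : R
  t : R
  c : R

instance instGroupHB {R : Type*} [CommRing R] (α γ : R) : Group (HB α γ) where
  mul x y := ⟨x.s + y.s, x.t + y.t, x.c + y.c + x.s * y.t + α * x.s * y.s + γ * x.t * y.t⟩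
  one := ⟨0, 0, 0⟩
  inv x := ⟨-x.s, -x.t, -x.c + x.s * x.t + α * x.s * x.s + γ * x.t * x.t⟩
  mul_assoc x y z := by
    apply HB.ext
    · show x.s + y.s + z.s = x.s + (y.s + z.s); ring
    · show x.t + y.t + z.t = x.t + (y.t + z.t); ring
    · show x.c + y.c + x.s * y.t + α * x.s * y.s + γ * x.t * y.t + z.c + (x.s + y.s) * z.t
          + α * (x.s + y.s) * z.s + γ * (x.t + y.t) * z.t
        = x.c + (y.c + z.c + y.s * z.t + α * y.s * z.s + γ * y.t * z.t) + x.s * (y.t + z.t)
          + α * x.s * (y.s + z.s) + γ * x.t * (y.t + z.t); ring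
  one_mul x := by
    apply HB.ext
    · show 0 + x.s = x.s; ring
    · show 0 + x.t = x.t; ring
    · show 0 + x.c + 0 * x.t + α * 0 * x.s + γ * 0 * x.t = x.c; ring
  mul_one x := by
    apply HB.ext
    · show x.s + 0 = x.s; ring
    · show x.t + 0 = x.t; ring
    · show x.c + 0 + x.s * 0 + α * x.s * 0 + γ * x.t * 0 = x.c; ring
  inv_mul_cancel x := by
    apply HB.ext
    · show -x.s + x.s = 0; ring
    · show -x.t + x.t = 0; ring
    · show -x.c + x.s * x.t + α * x.s * x.s + γ * x.t * x.t + x.c + -x.s * x.t + α * -x.s * x.s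
        + γ * -x.t * x.t = 0; ring

theorem HB.mul_s {R : Type*} [CommRing R] {α γ : R} (x y : HB α γ) : (x * y).s = x.s + y.s := rfl
theorem HB.mul_t {R : Type*} [CommRing R] {α γ : R} (x y : HB α γ) : (x * y).t = x.t + y.t := rfl
theorem HB.mul_c {R : Type*} [CommRing R] {α γ : R} (x y : HB α γ) :
    (x * y).c = x.c + y.c + x.s * y.t + α * x.s * y.s + γ * x.t * y.t := rfl
theorem HB.one_s {R : Type*} [CommRing R] {α γ : R} : (1 : HB α γ).s = 0 := rfl
theorem HB.one_t {R : Type*} [CommRing R] {α γ : R} : (1 : HB α γ).t = 0 := rfl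
theorem HB.one_c {R : Type*} [CommRing R] {α γ : R} : (1 : HB α γ).c = 0 := rfl

/-- `ω` -/
def om : K4 := K4.ofN 2

end Cfsg.Agent.Lib.Helper47.T2933
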