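import Mathlib

set_option autoImplicit false

/-! T2933 PartAB piece AB10 (helper79 mini-farm).  Two independent elements of order `N` in a commutative group of order `≤ N²`. -/
namespace Cfsg.Agent.Lib.Helper47.T2933

/-- the hom `Multiplicative (ZMod N) →* T`, `a ↦ y ^ a.val` for `y ^ N = 1` -/
noncomputable def AB10_hom {T : Type*} [Group T] (N : ℕ) [NeZero N] (y : T) (hy : y ^ N = 1) :
    Multiplicative (ZMod N) →* T :=
  MonoidHom.mk' (fun a => y ^ (Multiplicative.toAdd a).val) (by
    intro a b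
    rw [toAdd_mul, ZMod.val_add, ← pow_add]
    conv_rhs => rw [← Nat.mod_add_div ((Multiplicative.toAdd a).val + (Multiplicative.toAdd b).val) N]
    rw [pow_add, pow_mul, hy, one_pow, mul_one])

theorem AB10_hom_apply {T : Type*} [Group T] (N : ℕ) [NeZero N] (y : T) (hy : y ^ N = 1)
    (a : Multiplicative (ZMod N)) : AB10_hom N y hy a = y ^ (Multiplicative.toAdd a).val := rfl

theorem AB10_iso {T : Type*} [Group T] [Finite T] (hcomm : ∀ g k : T, g * k = k * g) (N : ℕ)
    (hN : 0 < N) (y z : T) (hy : orderOf y = N) (hz : orderOf z = N)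
    (hyz : Subgroup.zpowers y ⊓ Subgroup.zpowers z = ⊥) (hcard : Nat.card T ≤ N * N) :
    Subgroup.closure {y, z} = ⊤ ∧
      Nonempty (T ≃* Multiplicative (ZMod N) × Multiplicative (ZMod N)) := by
  haveI : NeZero N := ⟨hN.ne'⟩
  have hy1 : y ^ N = 1 := by rw [← hy]; exact pow_orderOf_eq_one y
  have hz1 : z ^ N = 1 := by rw [← hz]; exact pow_orderOf_eq_one z
  let f : Multiplicative (ZMod N) × Multiplicative (ZMod N) →* T :=
    MonoidHom.mk' (fun a => AB10_hom N y hy1 a.1 * AB10_hom N z hz1 a.2) (by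
      intro a b
      simp only [Prod.fst_mul, Prod.snd_mul, map_mul]
      rw [mul_assoc, mul_assoc]
      congr 1
      rw [← mul_assoc, ← mul_assoc, hcomm (AB10_hom N y hy1 b.1)])
  have hf : ∀ a, f a = y ^ (Multiplicative.toAdd a.1).val * z ^ (Multiplicative.toAdd a.2).val :=
    fun a => rfl
  have hzero : ∀ (w : T), orderOf w = N → ∀ i : Multiplicative (ZMod N),
      w ^ (Multiplicative.toAdd i).val = 1 → i = 1 := by
    intro w hw i hi
    have h0 : orderOf w ∣ (Multiplicative.toAdd i).val := orderOf_dvd_of_pow_eq_one hi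
    have h1 : N ∣ (Multiplicative.toAdd i).val := by
      obtain ⟨c, hc⟩ := h0
      exact ⟨c, by rw [hc, hw]⟩
    have h2 : (Multiplicative.toAdd i).val < N := ZMod.val_lt _
    have h3 : (Multiplicative.toAdd i).val = 0 := Nat.eq_zero_of_dvd_of_lt h1 h2
    have h4 : Multiplicative.toAdd i = 0 := (ZMod.val_eq_zero _).1 h3
    exact h4
  have hinj : Function.Injective f := by
    rw [injective_iff_map_eq_one]
    intro a ha
    rw [hf] at ha
    have h1 : y ^ (Multiplicative.toAdd a.1).val = (z ^ (Multiplicative.toAdd a.2).val)⁻¹ :=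
      eq_inv_of_mul_eq_one_left ha
    have h2 : y ^ (Multiplicative.toAdd a.1).val ∈ Subgroup.zpowers y ⊓ Subgroup.zpowers z := by
      refine ⟨Subgroup.pow_mem _ (Subgroup.mem_zpowers y) _, ?_⟩
      rw [h1]
      exact Subgroup.inv_mem _ (Subgroup.pow_mem _ (Subgroup.mem_zpowers z) _)
    rw [hyz, Subgroup.mem_bot] at h2
    have h3 : z ^ (Multiplicative.toAdd a.2).val = 1 := by
      rw [h2, one_mul] at ha
      exact ha
    exact Prod.ext (hzero y hy a.1 h2) (hzero z hz a.2 h3)
  have hc : Nat.card (Multiplicative (ZMod N) × Multiplicative (ZMod N)) = N * N := by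
    rw [Nat.card_prod]
    have : Nat.card (Multiplicative (ZMod N)) = N := by
      rw [Nat.card_eq_of_bijective Multiplicative.toAdd Multiplicative.toAdd.bijective, Nat.card_zmod]
    rw [this]
  have hbij : Function.Bijective f :=
    Function.Injective.bijective_of_nat_card_le hinj (by rw [hc]; exact hcard)
  refine ⟨?_, ⟨(MulEquiv.ofBijective f hbij).symm⟩⟩
  rw [eq_top_iff]
  intro x _
  obtain ⟨a, rfl⟩ := hbij.2 x
  rw [hf]
  exact Subgroup.mul_mem _
    (Subgroup.pow_mem _ (Subgroup.subset_closure (by simp)) _)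
    (Subgroup.pow_mem _ (Subgroup.subset_closure (by simp)) _)

theorem AB10 {T : Type*} [Group T] [Finite T] (hcomm : ∀ g k : T, g * k = k * g) (y y' : T) (n : ℕ)
    (hy : orderOf y = 2 ^ n)
    (hy' : orderOf y' = 2 ^ n) (hd : Subgroup.zpowers y ⊓ Subgroup.zpowers y' = ⊥)
    (hc : Nat.card T ≤ 4 ^ n) :
    Subgroup.closure {y, y'} = ⊤ ∧
      Nonempty (T ≃* Multiplicative (ZMod (2 ^ n)) × Multiplicative (ZMod (2 ^ n))) := by
  apply AB10_iso hcomm (2 ^ n) (by positivity) y y' hy hy' hd
  have : (4 : ℕ) ^ n = 2 ^ n * 2 ^ n := by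
    rw [← mul_pow]
    norm_num
  rw [← this]
  exact hc

end Cfsg.Agent.Lib.Helper47.T2933
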