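import Mathlib

set_option autoImplicit false

/-! T2933 PartAB piece AB9 (helper79 mini-farm).  `zpowers y ⊓ zpowers (ρ y) = ⊥` for a fixed-point-free `ρ`
and `y` of order `2 ^ n`, `n ≥ 1`: a cyclic 2-group has a unique involution. -/
namespace Cfsg.Agent.Lib.Helper47.T2933

/-- the unique involution of a cyclic group of order `2 ^ n` -/
theorem AB9_key {T : Type*} [Group T] (y : T) (n : ℕ) (hn : 1 ≤ n) (hy : orderOf y = 2 ^ n)
    (w : T) (hw : w ∈ Subgroup.zpowers y) (hw2 : w ^ 2 = 1) (hw1 : w ≠ 1) :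
    w = y ^ 2 ^ (n - 1) := by
  obtain ⟨m, rfl⟩ : ∃ m, n = m + 1 := ⟨n - 1, by omega⟩
  simp only [Nat.add_sub_cancel]
  obtain ⟨i, rfl⟩ := Subgroup.mem_zpowers_iff.1 hw
  have h1 : y ^ (i * 2) = 1 := by
    rw [zpow_mul]
    exact_mod_cast hw2
  have h2 : ((2 ^ (m + 1) : ℕ) : ℤ) ∣ i * 2 := by
    rw [← hy]
    exact orderOf_dvd_iff_zpow_eq_one.2 h1
  have h3 : ((2 : ℤ) ^ m) ∣ i := by
    obtain ⟨c, hc⟩ := h2
    refine ⟨c, ?_⟩
    have : i * 2 = (2 ^ m * c) * 2 := by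
      rw [hc]
      push_cast
      ring
    exact mul_right_cancel₀ (by norm_num) this
  obtain ⟨c, rfl⟩ := h3
  have hz2 : (y ^ 2 ^ m) ^ 2 = 1 := by
    rw [← pow_mul, ← pow_succ, ← hy]
    exact pow_orderOf_eq_one y
  have h4 : y ^ ((2 : ℤ) ^ m * c) = (y ^ 2 ^ m) ^ c := by
    rw [zpow_mul]
    congr 1
    exact_mod_cast zpow_natCast y (2 ^ m)
  rw [h4] at hw1 ⊢
  rcases Int.even_or_odd' c with ⟨k, hk | hk⟩
  · exfalso
    apply hw1
    rw [hk, zpow_mul]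
    have : (y ^ 2 ^ m) ^ (2 : ℤ) = 1 := by exact_mod_cast hz2
    rw [this, one_zpow]
  · rw [hk, zpow_add, zpow_mul, zpow_one]
    have : (y ^ 2 ^ m) ^ (2 : ℤ) = 1 := by exact_mod_cast hz2
    rw [this, one_zpow, one_mul]

theorem AB9 {T : Type*} [Group T] [Finite T] (ρ : MulAut T) (fpf : ∀ g, ρ g = g → g = 1) (y : T) (n : ℕ)
    (hn : 1 ≤ n)
    (hy : orderOf y = 2 ^ n) : Subgroup.zpowers y ⊓ Subgroup.zpowers (ρ y) = ⊥ := by
  rw [eq_bot_iff]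
  intro d hd
  rw [Subgroup.mem_bot]
  by_contra hd1
  have hdy : d ∈ Subgroup.zpowers y := hd.1
  have hdy' : d ∈ Subgroup.zpowers (ρ y) := hd.2
  have hy' : orderOf (ρ y) = 2 ^ n := by rw [MulEquiv.orderOf_eq, hy]
  -- order of d
  have hdn : d ^ 2 ^ n = 1 := by
    obtain ⟨i, rfl⟩ := Subgroup.mem_zpowers_iff.1 hdy
    rw [← zpow_natCast, ← zpow_mul, mul_comm, zpow_mul, zpow_natCast, ← hy, pow_orderOf_eq_one,
      one_zpow]
  obtain ⟨k, _, hk⟩ := (Nat.dvd_prime_pow Nat.prime_two).1 (orderOf_dvd_of_pow_eq_one hdn)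
  have hk0 : k ≠ 0 := by
    rintro rfl
    rw [pow_zero, orderOf_eq_one_iff] at hk
    exact hd1 hk
  obtain ⟨k', rfl⟩ : ∃ k', k = k' + 1 := ⟨k - 1, by omega⟩
  set w := d ^ 2 ^ k' with hw
  have hw2 : w ^ 2 = 1 := by
    rw [hw, ← pow_mul, ← pow_succ, ← hk]
    exact pow_orderOf_eq_one d
  have hw1 : w ≠ 1 := by
    intro h1
    have h2 : orderOf d ∣ 2 ^ k' := orderOf_dvd_of_pow_eq_one h1
    rw [hk] at h2
    have h3 := Nat.le_of_dvd (by positivity) h2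
    rw [pow_succ] at h3
    have : 0 < 2 ^ k' := by positivity
    omega
  have e1 := AB9_key y n hn hy w (Subgroup.pow_mem _ hdy _) hw2 hw1
  have e2 := AB9_key (ρ y) n hn hy' w (Subgroup.pow_mem _ hdy' _) hw2 hw1
  apply hw1
  apply fpf
  conv_lhs => rw [e1]
  rw [map_pow]
  exact e2.symm

end Cfsg.Agent.Lib.Helper47.T2933
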