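import Mathlib
import Cfsg.Agent.Lib.Helper47.T2933.Defs
import Cfsg.Agent.Lib.Helper47.T2933.AB.AB5
import Cfsg.Agent.Lib.Helper47.T2933.AB.AB6
import Cfsg.Agent.Lib.Helper47.T2933.AB.AB7
import Cfsg.Agent.Lib.Helper47.T2933.AB.AB8
import Cfsg.Agent.Lib.Helper47.T2933.AB.AB9
import Cfsg.Agent.Lib.Helper47.T2933.AB.AB10

set_option autoImplicit false

/-! S2933 PART AB (abelian case): assembly of the pieces AB1 - AB10 (helper11). -/

namespace Cfsg.Agent.Lib.Helper47.T2933

theorem abelian_case {T : Type*} [Group T] [Finite T] (hT : IsPGroup 2 T) (ρ t : MulAut T)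
    (h : Hyp ρ t) (hcomm : ∀ g k : T, g * k = k * g) :
    (Nat.card T = 16 ∧ ∀ x : T, x ^ 2 = 1) ∨
      (∃ y : T, Subgroup.closure {y, ρ y} = ⊤ ∧ ∃ n : ℕ, 1 ≤ n ∧
        Nonempty (T ≃* Multiplicative (ZMod (2 ^ n)) × Multiplicative (ZMod (2 ^ n)))) := by
  rcases AB5_card_omega hT ρ t h hcomm with h4 | h16
  · right
    have hne : ∃ x : T, x ≠ 1 := by
      by_contra hcon
      push Not at hcon
      have : Subsingleton {g : T // g ^ 2 = 1} :=
        ⟨fun a b => Subtype.ext ((hcon a).trans (hcon b).symm)⟩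
      have h1 : Nat.card {g : T // g ^ 2 = 1} ≤ 1 := Finite.card_le_one_iff_subsingleton.2 this
      omega
    obtain ⟨y, n, hn, hy, hexp⟩ := AB10_max_order hT hcomm hne
    have hcard : Nat.card T ≤ 4 ^ n := by
      let _ : CommGroup T := { (inferInstance : Group T) with mul_comm := hcomm }
      exact AB7_card_le n hexp h4.le
    have hcard' : Nat.card T ≤ 2 ^ n * 2 ^ n := by
      have : (4 : ℕ) ^ n = 2 ^ n * 2 ^ n := by
        rw [← mul_pow]; norm_num
      omega
    have hρy : orderOf (ρ y) = 2 ^ n := by rw [MulEquiv.orderOf_eq, hy]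
    obtain ⟨hcl, e⟩ := AB9_iso hcomm (2 ^ n) (by positivity) y (ρ y) hy hρy
      (AB8_inf_bot hT ρ h.fpf y) hcard'
    exact ⟨y, hcl, n, hn, e⟩
  · left
    have hall := AB6_elementary hT t h.tsq h.fix4 hcomm h16
    refine ⟨?_, hall⟩
    rw [← h16]
    exact Nat.card_congr (Equiv.subtypeUnivEquiv hall).symm

end Cfsg.Agent.Lib.Helper47.T2933
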