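import Mathlib
import Cfsg.Agent.Lib.Helper47.T2933.Defs
import Cfsg.Agent.Lib.Helper29.E4.Main

set_option autoImplicit false

namespace Cfsg.Agent.Lib.Helper47.T2933

open Cfsg.Agent.Lib.Helper54 (K4)
open Cfsg.Agent.Lib.Helper47.T64
open scoped commutatorElement

theorem comm_central {T : Type*} [Group T] [Finite T] (ρ : MulAut T)
    (h3 : ∀ g, ρ (ρ (ρ g)) = g) (hfp : ∀ g, ρ g = g → g = 1) :
    ∀ d ∈ commutator T, ∀ g : T, d * g = g * d := by
  have hle : commutator T ≤ Subgroup.center T := by
    rw [commutator_eq_closure, Subgroup.closure_le]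
    rintro _ ⟨a, b, rfl⟩
    rw [SetLike.mem_coe, Subgroup.mem_center_iff]
    intro c
    have := Cfsg.Agent.Lib.Helper29.E4.K_main (s := ρ) ⟨h3, hfp⟩ b a c
    rw [commutatorElement_def]
    exact this
  intro d hd g
  exact (Subgroup.mem_center_iff.mp (hle hd) g).symm

theorem comm_inv {T : Type*} [Group T] (e : MulAut T) : ∀ d ∈ commutator T, e d ∈ commutator T := by
  intro d hd
  have hle : commutator T ≤ (commutator T).comap e.toMonoidHom := by
    rw [commutator_eq_closure, Subgroup.closure_le]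
    rintro _ ⟨a, b, rfl⟩
    show e ⁅a, b⁆ ∈ Subgroup.closure (commutatorSet T)
    rw [map_commutatorElement]
    exact Subgroup.subset_closure ⟨_, _, rfl⟩
  exact hle hd

end Cfsg.Agent.Lib.Helper47.T2933
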