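import Mathlib
import Cfsg.Agent.Lib.Helper47.T2933.Defs

set_option autoImplicit false

/-! T2933 piece N2.  Counting modulo 3, and fixed points modulo an invariant subgroup. -/
namespace Cfsg.Agent.Lib.Helper47.T2933

open Cfsg.Agent.Lib.Helper54 (K4)
open Cfsg.Agent.Lib.Helper47.T64
open scoped commutatorElement

theorem card_mod3 {T : Type*} [Group T] [Finite T] (ρ : MulAut T)
    (h3 : ∀ g, ρ (ρ (ρ g)) = g) (hfp : ∀ g, ρ g = g → g = 1)
    (N : Subgroup T) (hN : ∀ n ∈ N, ρ n ∈ N) : Nat.card N % 3 = 1 := by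
  classical
  haveI := Fintype.ofFinite N
  haveI : Fact (Nat.Prime 3) := ⟨Nat.prime_three⟩
  let f : Function.End N := fun n => ⟨ρ n, hN n n.2⟩
  have hf : f ^ 3 ^ 1 = 1 := by
    have e : f ^ 3 ^ 1 = f * f * f := by rw [pow_one, pow_succ, pow_succ, pow_one]
    rw [e]
    funext n
    apply Subtype.ext
    exact h3 n
  have h1 := Equiv.Perm.card_fixedPoints_modEq hf
  have h2 : Fintype.card (Function.fixedPoints f) = 1 := by
    rw [Fintype.card_eq_one_iff]
    refine ⟨⟨1, ?_⟩, ?_⟩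
    · apply Subtype.ext
      exact map_one ρ
    · rintro ⟨n, hn⟩
      apply Subtype.ext
      apply Subtype.ext
      have h4 : ρ n = n := congrArg Subtype.val hn
      exact hfp _ h4
  rw [Nat.card_eq_fintype_card]
  rw [h2] at h1
  exact h1

theorem fpf_mod {T : Type*} [Group T] [Finite T] (ρ : MulAut T) (hfp : ∀ g, ρ g = g → g = 1)
    (D : Subgroup T) (hD : ∀ d ∈ D, ρ d ∈ D) (y : T) (hy : y⁻¹ * ρ y ∈ D) : y ∈ D := by
  have key : ∀ a b : T, a⁻¹ * ρ a = b⁻¹ * ρ b → a = b := by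
    intro a b h
    have h1 : ρ (a * b⁻¹) = a * b⁻¹ := by
      rw [map_mul, map_inv]
      have h2 : ρ a = a * (b⁻¹ * ρ b) := by rw [← h]; group
      rw [h2]; group
    have h3 := hfp _ h1
    exact mul_inv_eq_one.mp h3
  let f : D → D := fun m => ⟨(m : T)⁻¹ * ρ m, D.mul_mem (D.inv_mem m.2) (hD _ m.2)⟩
  have hinj : Function.Injective f := by
    intro a b h
    apply Subtype.ext
    exact key _ _ (congrArg Subtype.val h)
  have hsurj := Finite.surjective_of_injective hinj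
  obtain ⟨m, hm⟩ := hsurj ⟨_, hy⟩
  have h1 : (m : T)⁻¹ * ρ m = y⁻¹ * ρ y := congrArg Subtype.val hm
  have h2 := key _ _ h1
  rw [← h2]; exact m.2

end Cfsg.Agent.Lib.Helper47.T2933
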