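import Mathlib
import Cfsg.Agent.Lib.Helper47.T2933.Defs

set_option autoImplicit false

/-! T2933 piece N3.  `|C_{T/D}(t)| ≤ |C_T(t)|`. -/
namespace Cfsg.Agent.Lib.Helper47.T2933

open Cfsg.Agent.Lib.Helper54 (K4)
open Cfsg.Agent.Lib.Helper47.T64
open scoped commutatorElement

theorem card_fix_quot {T : Type*} [Group T] [Finite T] (t : MulAut T) (D : Subgroup T) [D.Normal]
    (t' : MulAut (T ⧸ D)) (ht' : ∀ g : T, t' (QuotientGroup.mk g) = QuotientGroup.mk (t g)) :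
    Nat.card {q : T ⧸ D // t' q = q} ≤ Nat.card {g : T // t g = g} := by
  classical
  have ha : Nat.card {q : T ⧸ D // t' q = q} * Nat.card D ≤
      Nat.card {g : T // g⁻¹ * t g ∈ D} := by
    rw [← Nat.card_prod]
    have hmk : ∀ (q : T ⧸ D) (d : D), (QuotientGroup.mk (q.out * (d : T)) : T ⧸ D) = q := by
      intro q d
      rw [QuotientGroup.mk_mul, QuotientGroup.out_eq', (QuotientGroup.eq_one_iff (d : T)).2 d.2,
        mul_one]
    apply Nat.card_le_card_of_injective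
      (fun x : {q : T ⧸ D // t' q = q} × D => (⟨x.1.1.out * (x.2 : T), by
        rw [← QuotientGroup.eq, ← ht', hmk, x.1.2]⟩ : {g : T // g⁻¹ * t g ∈ D}))
    rintro ⟨⟨q, hq⟩, d⟩ ⟨⟨q', hq'⟩, d'⟩ hx
    have h1 : q.out * (d : T) = q'.out * (d' : T) := congrArg Subtype.val hx
    have h2 : q = q' := by
      rw [← hmk q d, ← hmk q' d', h1]
    subst h2
    have h3 : d = d' := Subtype.ext (mul_left_cancel h1)
    subst h3
    rfl
  have hb : Nat.card {g : T // g⁻¹ * t g ∈ D} ≤ Nat.card D * Nat.card {g : T // t g = g} := by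
    rw [← Nat.card_prod]
    let g₀ : T → T := fun δ => Classical.epsilon (fun g : T => g⁻¹ * t g = δ)
    have hg₀ : ∀ k : T, (g₀ (k⁻¹ * t k))⁻¹ * t (g₀ (k⁻¹ * t k)) = k⁻¹ * t k := by
      intro k
      exact Classical.epsilon_spec (p := fun g : T => g⁻¹ * t g = k⁻¹ * t k) ⟨k, rfl⟩
    apply Nat.card_le_card_of_injective
      (fun k : {g : T // g⁻¹ * t g ∈ D} =>
        ((⟨k.1⁻¹ * t k.1, k.2⟩, ⟨k.1 * (g₀ (k.1⁻¹ * t k.1))⁻¹, by
          have h := hg₀ k.1
          generalize g₀ (k.1⁻¹ * t k.1) = g at h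
          rw [map_mul, map_inv]
          have h1 : t g = g * (k.1⁻¹ * t k.1) := by rw [← h]; group
          rw [h1]
          group⟩) : D × {g : T // t g = g}))
    rintro ⟨k, hk⟩ ⟨k', hk'⟩ hx
    have h1 : k⁻¹ * t k = k'⁻¹ * t k' := congrArg (fun y => (y.1 : T)) hx
    have h2 : k * (g₀ (k⁻¹ * t k))⁻¹ = k' * (g₀ (k'⁻¹ * t k'))⁻¹ :=
      congrArg (fun y => (y.2 : T)) hx
    rw [h1] at h2
    exact Subtype.ext (mul_right_cancel h2)
  have hD : 0 < Nat.card D := Nat.card_pos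
  have := ha.trans hb
  rw [mul_comm] at this
  exact Nat.le_of_mul_le_mul_left this hD

end Cfsg.Agent.Lib.Helper47.T2933
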