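import Mathlib
import Cfsg.Agent.Lib.Helper47.T2933.Defs
import Cfsg.Agent.Lib.Helper47.T2933.N2
import Cfsg.Agent.Lib.Helper47.T2933.N3

set_option autoImplicit false

/-! T2933 piece N4.  The hypotheses pass to the quotient by a proper invariant normal subgroup. -/
namespace Cfsg.Agent.Lib.Helper47.T2933

open Cfsg.Agent.Lib.Helper54 (K4)
open Cfsg.Agent.Lib.Helper47.T64
open scoped commutatorElement

theorem hyp_quot {T : Type*} [Group T] [Finite T] (hT : IsPGroup 2 T) (ρ t : MulAut T)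
    (h : Hyp ρ t) (D : Subgroup T) [D.Normal] (hD1 : D ≠ ⊤) (hDρ : ∀ d ∈ D, ρ d ∈ D)
    (ρ' t' : MulAut (T ⧸ D))
    (hρ' : ∀ g : T, ρ' (QuotientGroup.mk g) = QuotientGroup.mk (ρ g))
    (ht' : ∀ g : T, t' (QuotientGroup.mk g) = QuotientGroup.mk (t g)) : Hyp ρ' t' := by
  classical
  have hs := QuotientGroup.mk_surjective (s := D)
  have hcube : ∀ q, ρ' (ρ' (ρ' q)) = q := by
    intro q
    obtain ⟨g, rfl⟩ := hs q
    rw [hρ', hρ', hρ', h.cube]
  have hfpf : ∀ q, ρ' q = q → q = 1 := by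
    intro q hq
    obtain ⟨g, rfl⟩ := hs q
    rw [hρ'] at hq
    have h1 : g⁻¹ * ρ g ∈ D := QuotientGroup.eq.1 hq.symm
    exact (QuotientGroup.eq_one_iff g).2 (fpf_mod ρ h.fpf D hDρ g h1)
  have htsq : ∀ q, t' (t' q) = q := by
    intro q
    obtain ⟨g, rfl⟩ := hs q
    rw [ht', ht', h.tsq]
  have htρ : ∀ q, t' (ρ' q) = ρ' (t' q) := by
    intro q
    obtain ⟨g, rfl⟩ := hs q
    rw [hρ', ht', ht', hρ', h.tρ]
  refine ⟨hcube, hfpf, htsq, htρ, ?_⟩
  have hle : Nat.card {q : T ⧸ D // t' q = q} ≤ 4 := (card_fix_quot t D t' ht').trans h.fix4.le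
  let N : Subgroup (T ⧸ D) :=
    { carrier := {q | t' q = q}
      mul_mem' := by
        intro a b ha hb
        show t' (a * b) = a * b
        rw [map_mul, ha, hb]
      one_mem' := map_one t'
      inv_mem' := by
        intro a ha
        show t' a⁻¹ = a⁻¹
        rw [map_inv, ha] }
  have hmod : Nat.card N % 3 = 1 := card_mod3 ρ' hcube hfpf N (fun q hq => by
    show t' (ρ' q) = ρ' q
    rw [htρ, hq])
  have hNn : Nat.card N = Nat.card {q : T ⧸ D // t' q = q} := rfl
  rw [hNn] at hmod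
  have heven : 2 ∣ Nat.card (T ⧸ D) := by
    obtain ⟨n, hn⟩ := IsPGroup.iff_card.1 (hT.to_quotient D)
    rcases n with _ | n
    · exfalso
      apply hD1
      rw [← Subgroup.index_eq_one]
      simpa [Subgroup.index] using hn
    · rw [hn, pow_succ]
      exact Dvd.intro_left _ rfl
  have := Fintype.ofFinite (T ⧸ D)
  let f : Function.End (T ⧸ D) := (t' : T ⧸ D → T ⧸ D)
  have hf2 : f ^ 2 ^ 1 = 1 := by
    rw [pow_one, pow_two]
    funext q
    exact htsq q
  have hfix := Equiv.Perm.card_fixedPoints_modEq (α := T ⧸ D) (f := f) (p := 2) (n := 1) hf2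
  have hfc : Fintype.card (Function.fixedPoints f) =
      Nat.card {q : T ⧸ D // t' q = q} := by
    rw [← Nat.card_eq_fintype_card]
    rfl
  rw [hfc, ← Nat.card_eq_fintype_card] at hfix
  have h2 : 2 ∣ Nat.card {q : T ⧸ D // t' q = q} :=
    (Nat.modEq_zero_iff_dvd.1 (hfix.symm.trans (Nat.modEq_zero_iff_dvd.2 heven)))
  generalize Nat.card {q : T ⧸ D // t' q = q} = n at *
  omega

theorem exists_induced {T : Type*} [Group T] (e : MulAut T) :
    ∃ e' : MulAut (T ⧸ commutator T),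
      ∀ g : T, e' (QuotientGroup.mk g) = QuotientGroup.mk (e g) := by
  have he : (commutator T).map (e : T ≃* T).toMonoidHom = commutator T :=
    Subgroup.characteristic_iff_map_eq.1 inferInstance e
  exact ⟨QuotientGroup.congr (commutator T) (commutator T) e he, fun g => rfl⟩

end Cfsg.Agent.Lib.Helper47.T2933
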