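import Mathlib
import Cfsg.Agent.Lib.Helper47.T2933.Defs
import Cfsg.Agent.Lib.Helper47.T2933.PartAB
import Cfsg.Agent.Lib.Helper47.T2933.N1
import Cfsg.Agent.Lib.Helper47.T2933.N4
import Cfsg.Agent.Lib.Helper47.T64.A1

set_option autoImplicit false

/-! T2933 piece N5.  For non-abelian `T` the abelianization is elementary abelian of order 16. -/
namespace Cfsg.Agent.Lib.Helper47.T2933

open Cfsg.Agent.Lib.Helper54 (K4)
open Cfsg.Agent.Lib.Helper47.T64
open scoped commutatorElement

theorem quot_elem {T : Type*} [Group T] [Finite T] (hT : IsPGroup 2 T) (ρ t : MulAut T)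
    (h : Hyp ρ t) (hna : ∃ g k : T, g * k ≠ k * g) :
    Nat.card (T ⧸ commutator T) = 16 ∧ ∀ g : T, g * g ∈ commutator T := by
  obtain ⟨g0, k0, hgk⟩ := hna
  have hcen := comm_central ρ h.cube h.fpf
  have hDne : commutator T ≠ ⊤ := by
    intro ht
    apply hgk
    exact hcen g0 (by rw [ht]; exact Subgroup.mem_top g0) k0
  obtain ⟨ρ', hρ'⟩ := exists_induced ρ
  obtain ⟨t', ht'⟩ := exists_induced t
  have hyp := hyp_quot hT ρ t h (commutator T) hDne (comm_inv ρ) ρ' t' hρ' ht'
  have hTq : IsPGroup 2 (T ⧸ commutator T) := hT.to_quotient _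
  have hcomm : ∀ x y : T ⧸ commutator T, x * y = y * x := by
    intro x y
    obtain ⟨x, rfl⟩ := QuotientGroup.mk_surjective x
    obtain ⟨y, rfl⟩ := QuotientGroup.mk_surjective y
    rw [← QuotientGroup.mk_mul, ← QuotientGroup.mk_mul, QuotientGroup.eq]
    have : (x * y)⁻¹ * (y * x) = ⁅y⁻¹, x⁻¹⁆ := by rw [commutatorElement_def]; group
    rw [this]
    exact Subgroup.commutator_mem_commutator (Subgroup.mem_top _) (Subgroup.mem_top _)
  rcases abelian_case hTq ρ' t' hyp hcomm with ⟨h16, hsq⟩ | ⟨y', hy', _⟩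
  · refine ⟨h16, fun g => ?_⟩
    have := hsq (QuotientGroup.mk g)
    rw [pow_two, ← QuotientGroup.mk_mul, QuotientGroup.eq_one_iff] at this
    exact this
  · exfalso
    obtain ⟨y, rfl⟩ := QuotientGroup.mk_surjective y'
    rw [hρ'] at hy'
    have hcm := (fpf_identities ρ h.cube h.fpf).2 y
    have hmap : (Subgroup.closure {y, ρ y}).map (QuotientGroup.mk' (commutator T)) = ⊤ := by
      rw [MonoidHom.map_closure, Set.image_pair]; exact hy'
    have hdec : ∀ g : T, ∃ x ∈ Subgroup.closure {y, ρ y}, ∃ d ∈ commutator T, g = x * d := by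
      intro g
      have hg : QuotientGroup.mk' (commutator T) g ∈
          (Subgroup.closure {y, ρ y}).map (QuotientGroup.mk' (commutator T)) := by
        rw [hmap]; exact Subgroup.mem_top _
      obtain ⟨x, hx, hxg⟩ := hg
      exact ⟨x, hx, x⁻¹ * g, QuotientGroup.eq.1 hxg, by group⟩
    have hS : ∀ s ∈ ({y, ρ y} : Set T), ∀ s' ∈ ({y, ρ y} : Set T), s * s' = s' * s := by
      intro s hs s' hs'
      simp only [Set.mem_insert_iff, Set.mem_singleton_iff] at hs hs'
      rcases hs with rfl | rfl <;> rcases hs' with rfl | rfl <;>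
        first | rfl | exact hcm | exact hcm.symm
    have hA : ∀ x ∈ Subgroup.closure {y, ρ y}, ∀ x' ∈ Subgroup.closure {y, ρ y},
        x * x' = x' * x := by
      intro x hx x' hx'
      exact congrArg Subtype.val
        ((Subgroup.isMulCommutative_closure hS).is_comm.comm ⟨x, hx⟩ ⟨x', hx'⟩)
    apply hgk
    obtain ⟨x, hx, d, hd, rfl⟩ := hdec g0
    obtain ⟨x', hx', d', hd', rfl⟩ := hdec k0
    calc x * d * (x' * d') = x * (d * x') * d' := by group
      _ = x * (x' * d) * d' := by rw [hcen d hd x']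
      _ = (x * x') * (d * d') := by group
      _ = (x' * x) * (d' * d) := by rw [hA x hx x' hx', hcen d hd d']
      _ = x' * (x * d') * d := by group
      _ = x' * (d' * x) * d := by rw [hcen d' hd' x]
      _ = x' * d' * (x * d) := by group

end Cfsg.Agent.Lib.Helper47.T2933
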