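import Mathlib
import Cfsg.Agent.Lib.Helper47.T2933.Defs
import Cfsg.Agent.Lib.Helper47.T2933.N1
import Cfsg.Agent.Lib.Helper47.T64.A1

set_option autoImplicit false

/-! T2933 piece N6.  `Cfg ρ (commutator T)`. -/
namespace Cfsg.Agent.Lib.Helper47.T2933

open Cfsg.Agent.Lib.Helper54 (K4)
open Cfsg.Agent.Lib.Helper47.T64
open scoped commutatorElement

theorem cfg_comm {T : Type*} [Group T] [Finite T] (ρ : MulAut T)
    (h3 : ∀ g, ρ (ρ (ρ g)) = g) (hfp : ∀ g, ρ g = g → g = 1)
    (hcen : ∀ d ∈ commutator T, ∀ g : T, d * g = g * d)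
    (hsq : ∀ g : T, g * g ∈ commutator T) : Cfg ρ (commutator T) := by
  have hcomm : ∀ g h : T, ⁅g, h⁆ ∈ commutator T := fun g h =>
    Subgroup.commutator_mem_commutator (Subgroup.mem_top _) (Subgroup.mem_top _)
  have hid := fpf_identities ρ h3 hfp
  have hgen : ∀ g k : T, ⁅g, k⁆ * ⁅g, k⁆ = 1 := by
    intro g k
    have hw := hcen _ (hcomm g k)
    have h1 : g * k = ⁅g, k⁆ * (k * g) := by rw [commutatorElement_def]; group
    have h2 : (g * g) * k = k * (g * g) := hcen _ (hsq g) k
    have h4 : (g * g) * k = ⁅g, k⁆ * ⁅g, k⁆ * (k * (g * g)) := by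
      calc (g * g) * k = g * (g * k) := by group
        _ = g * (⁅g, k⁆ * (k * g)) := by rw [← h1]
        _ = (g * ⁅g, k⁆) * (k * g) := by rw [mul_assoc]
        _ = (⁅g, k⁆ * g) * (k * g) := by rw [hw g]
        _ = ⁅g, k⁆ * ((g * k) * g) := by simp only [mul_assoc]
        _ = ⁅g, k⁆ * ((⁅g, k⁆ * (k * g)) * g) := by rw [← h1]
        _ = ⁅g, k⁆ * ⁅g, k⁆ * (k * (g * g)) := by simp only [mul_assoc]
    rw [h2] at h4
    exact (mul_eq_right.mp h4.symm)
  have hz : ∀ z ∈ commutator T, z * z = 1 := by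
    intro z hz
    have hz' := hz
    rw [commutator_eq_closure] at hz'
    induction hz' using Subgroup.closure_induction with
    | mem x hx =>
      obtain ⟨a, b, rfl⟩ := hx
      exact hgen a b
    | one => simp
    | mul x y hx hy ihx ihy =>
      have hx' : x ∈ commutator T := by rw [commutator_eq_closure]; exact hx
      have hy' : y ∈ commutator T := by rw [commutator_eq_closure]; exact hy
      have e1 := ihx hx'
      have e2 := ihy hy'
      calc x * y * (x * y) = x * (y * x) * y := by simp only [mul_assoc]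
        _ = x * (x * y) * y := by rw [hcen y hy' x]
        _ = (x * x) * (y * y) := by simp only [mul_assoc]
        _ = 1 := by rw [e1, e2, one_mul]
    | inv x hx ih =>
      have hx' : x ∈ commutator T := by rw [commutator_eq_closure]; exact hx
      have e1 := ih hx'
      have : (x * x)⁻¹ = 1 := by rw [e1, inv_one]
      rw [mul_inv_rev] at this
      exact this
  exact ⟨hcen, hz, hcomm, hsq, comm_inv ρ, hid.1, hid.2, h3, hfp⟩

end Cfsg.Agent.Lib.Helper47.T2933
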