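import Mathlib
import Cfsg.Agent.Lib.Helper47.T2933.Defs
import Cfsg.Agent.Lib.Helper47.T2933.N2
import Cfsg.Agent.Lib.Helper47.T64.B1
import Cfsg.Agent.Lib.Helper47.T64.B2
import Cfsg.Agent.Lib.Helper47.T64.B3

set_option autoImplicit false

/-! T2933 piece N7.  Generation: `T = closure {a, ρ a, b, ρ b} ⊔ D` when `a`, `b` do not commute. -/
namespace Cfsg.Agent.Lib.Helper47.T2933

open Cfsg.Agent.Lib.Helper54 (K4)
open Cfsg.Agent.Lib.Helper47.T64
open scoped commutatorElement

theorem N7_inv {T : Type*} [Group T] (ρ : MulAut T) (D : Subgroup T) (c : Cfg ρ D) (S : Set T)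
    (hS : ∀ s ∈ S, ρ s ∈ Subgroup.closure S ⊔ D) :
    ∀ x ∈ Subgroup.closure S ⊔ D, ρ x ∈ Subgroup.closure S ⊔ D := by
  have hle : Subgroup.closure S ⊔ D ≤ (Subgroup.closure S ⊔ D).comap ρ.toMonoidHom := by
    refine sup_le ?_ ?_
    · rw [Subgroup.closure_le]
      intro s hs
      exact hS s hs
    · intro d hd
      exact (le_sup_right : D ≤ Subgroup.closure S ⊔ D) (c.inv d hd)
  intro x hx
  exact hle hx

theorem N7_rr {T : Type*} [Group T] (ρ : MulAut T) (D : Subgroup T) (c : Cfg ρ D) (a : T) :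
    ρ (ρ a) = (a * ρ a)⁻¹ := eq_inv_of_mul_eq_one_right (c.tr a)

theorem N7_rel {T : Type*} [Group T] [Finite T] (ρ : MulAut T) (D : Subgroup T) (c : Cfg ρ D)
    (hidx : D.index = 16) (Y : Subgroup T) (hDY : D ≤ Y) (hY : ∀ y ∈ Y, ρ y ∈ Y) :
    (D.relIndex Y = 1 ∨ D.relIndex Y = 4 ∨ D.relIndex Y = 16) ∧
      Nat.card D * D.relIndex Y = Nat.card Y ∧ D.relIndex Y * Y.index = 16 := by
  have h1 : D.relIndex Y * Y.index = 16 := by rw [Subgroup.relIndex_mul_index hDY, hidx]
  have h2 : Nat.card D * D.relIndex Y = Nat.card Y := by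
    have := (D.subgroupOf Y).card_mul_index
    rwa [Nat.card_congr (Subgroup.subgroupOfEquivOfLe hDY).toEquiv] at this
  have h3 := card_mod3 ρ c.cube c.fpf Y hY
  have h4 := card_mod3 ρ c.cube c.fpf D c.inv
  have h5 : D.relIndex Y % 3 = 1 := by
    rw [← h2, Nat.mul_mod, h4, one_mul, Nat.mod_mod] at h3
    exact h3
  refine ⟨?_, h2, h1⟩
  have h6 : D.relIndex Y ∣ 16 := Dvd.intro _ h1
  have h7 : D.relIndex Y ≤ 16 := Nat.le_of_dvd (by norm_num) h6
  generalize D.relIndex Y = i at h5 h6 h7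
  interval_cases i <;> omega

theorem gen_top {T : Type*} [Group T] [Finite T] (ρ : MulAut T) (D : Subgroup T) (c : Cfg ρ D)
    (hidx : D.index = 16) (a b : T) (hab : a * b ≠ b * a) :
    Subgroup.closure {a, ρ a, b, ρ b} ⊔ D = ⊤ := by
  have hXinv := N7_inv ρ D c {a, ρ a, b, ρ b} (by
    intro s hs
    simp only [Set.mem_insert_iff, Set.mem_singleton_iff] at hs
    apply (le_sup_left : Subgroup.closure {a, ρ a, b, ρ b} ≤ _)
    rcases hs with rfl | rfl | rfl | rfl
    · exact Subgroup.subset_closure (by simp)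
    · rw [N7_rr ρ D c]
      exact inv_mem (mul_mem (Subgroup.subset_closure (by simp)) (Subgroup.subset_closure (by simp)))
    · exact Subgroup.subset_closure (by simp)
    · rw [N7_rr ρ D c]
      exact inv_mem (mul_mem (Subgroup.subset_closure (by simp)) (Subgroup.subset_closure (by simp))))
  have hLinv := N7_inv ρ D c {a, ρ a} (by
    intro s hs
    simp only [Set.mem_insert_iff, Set.mem_singleton_iff] at hs
    apply (le_sup_left : Subgroup.closure {a, ρ a} ≤ _)
    rcases hs with rfl | rfl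
    · exact Subgroup.subset_closure (by simp)
    · rw [N7_rr ρ D c]
      exact inv_mem (mul_mem (Subgroup.subset_closure (by simp)) (Subgroup.subset_closure (by simp))))
  obtain ⟨hX1, hX2, hX3⟩ := N7_rel ρ D c hidx _ le_sup_right hXinv
  obtain ⟨hL1, hL2, hL3⟩ := N7_rel ρ D c hidx _ le_sup_right hLinv
  have hLX : Subgroup.closure {a, ρ a} ⊔ D ≤ Subgroup.closure {a, ρ a, b, ρ b} ⊔ D := by
    refine sup_le_sup_right (Subgroup.closure_mono ?_) D
    intro s hs
    simp only [Set.mem_insert_iff, Set.mem_singleton_iff] at hs ⊢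
    rcases hs with rfl | rfl <;> simp
  have haL : a ∈ Subgroup.closure {a, ρ a} ⊔ D :=
    (le_sup_left : Subgroup.closure {a, ρ a} ≤ _) (Subgroup.subset_closure (by simp))
  have hbX : b ∈ Subgroup.closure {a, ρ a, b, ρ b} ⊔ D :=
    (le_sup_left : Subgroup.closure {a, ρ a, b, ρ b} ≤ _) (Subgroup.subset_closure (by simp))
  have hL1' : D.relIndex (Subgroup.closure {a, ρ a} ⊔ D) ≠ 1 := by
    intro hh
    rw [Subgroup.relIndex_eq_one] at hh
    exact hab (c.cen a (hh haL) b)
  have hLcen : Subgroup.closure {a, ρ a} ⊔ D ≤ Subgroup.centralizer {a} := by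
    refine sup_le ?_ ?_
    · rw [Subgroup.closure_le]
      intro s hs
      simp only [Set.mem_insert_iff, Set.mem_singleton_iff] at hs
      rw [SetLike.mem_coe, Subgroup.mem_centralizer_singleton_iff]
      rcases hs with rfl | rfl
      · rfl
      · exact (c.cm a).symm
    · intro d hd
      rw [Subgroup.mem_centralizer_singleton_iff]
      exact c.cen d hd a
  have hcardle : Nat.card ↥(Subgroup.closure {a, ρ a} ⊔ D) ≤
      Nat.card ↥(Subgroup.closure {a, ρ a, b, ρ b} ⊔ D) := Subgroup.card_le_of_le hLX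
  have hDpos : 0 < Nat.card D := Nat.card_pos
  by_cases h16 : D.relIndex (Subgroup.closure {a, ρ a, b, ρ b} ⊔ D) = 16
  · rw [h16] at hX3
    exact Subgroup.index_eq_one.1 (by omega)
  · exfalso
    have hX4 : D.relIndex (Subgroup.closure {a, ρ a, b, ρ b} ⊔ D) ≤ 4 := by
      rcases hX1 with h | h | h <;> omega
    have hL4 : 4 ≤ D.relIndex (Subgroup.closure {a, ρ a} ⊔ D) := by
      rcases hL1 with h | h | h <;> omega
    have hge : Nat.card ↥(Subgroup.closure {a, ρ a, b, ρ b} ⊔ D) ≤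
        Nat.card ↥(Subgroup.closure {a, ρ a} ⊔ D) := by
      rw [← hX2, ← hL2]
      exact Nat.mul_le_mul_left _ (hX4.trans hL4)
    have heq := Subgroup.eq_of_le_of_card_ge hLX hge
    rw [← heq] at hbX
    have := hLcen hbX
    rw [Subgroup.mem_centralizer_singleton_iff] at this
    exact hab this.symm

end Cfsg.Agent.Lib.Helper47.T2933
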