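import Mathlib
import Cfsg.Agent.Lib.Helper47.T2933.Defs
import Cfsg.Agent.Lib.Helper47.T64.B1
import Cfsg.Agent.Lib.Helper47.T64.B2
import Cfsg.Agent.Lib.Helper47.T64.B3

set_option autoImplicit false

/-! T2933 piece N8. -/
namespace Cfsg.Agent.Lib.Helper47.T2933

open Cfsg.Agent.Lib.Helper54 (K4)
open Cfsg.Agent.Lib.Helper47.T64
open scoped commutatorElement

/-- the subgroup `{1, w, ρ w, ρ² w}` -/
def N8_W {T : Type*} [Group T] (ρ : MulAut T) (D : Subgroup T) (c : Cfg ρ D) (w : T)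
    (hw : w ∈ D) : Subgroup T where
  carrier := {z | z = 1 ∨ z = w ∨ z = ρ w ∨ z = ρ (ρ w)}
  one_mem' := Or.inl rfl
  mul_mem' := by
    have hu : ρ w ∈ D := c.inv w hw
    have hv : ρ (ρ w) ∈ D := c.inv _ hu
    have e1 : w * ρ w = ρ (ρ w) := tr_Z c w hw
    have w2 := c.zsq w hw
    have u2 := c.zsq _ hu
    have v2 := c.zsq _ hv
    have e2 : ρ w * w = ρ (ρ w) := by rw [c.cen _ hu w]; exact e1
    have e3 : w * ρ (ρ w) = ρ w := by rw [← e1, ← mul_assoc, w2, one_mul]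
    have e4 : ρ (ρ w) * w = ρ w := by rw [c.cen _ hv w]; exact e3
    have e5 : ρ w * ρ (ρ w) = w := by rw [← e2, ← mul_assoc, u2, one_mul]
    have e6 : ρ (ρ w) * ρ w = w := by rw [c.cen _ hv (ρ w)]; exact e5
    rintro x y (rfl | rfl | rfl | rfl) (rfl | rfl | rfl | rfl) <;>
      simp only [Set.mem_ofPred_eq, one_mul, mul_one, e1, e2, e3, e4, e5, e6, w2, u2, v2, true_or,
        or_true]
  inv_mem' := by
    have hu : ρ w ∈ D := c.inv w hw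
    have hv : ρ (ρ w) ∈ D := c.inv _ hu
    rintro x (rfl | rfl | rfl | rfl)
    · simp
    · rw [B2_inv c _ hw]; simp
    · rw [B2_inv c _ hu]; simp
    · rw [B2_inv c _ hv]; simp

theorem N8_card {T : Type*} [Group T] [Finite T] (ρ : MulAut T) (D : Subgroup T) (c : Cfg ρ D)
    (w : T) (hw : w ∈ D) : Nat.card (N8_W ρ D c w hw) ≤ 4 := by
  classical
  have hsub : ((N8_W ρ D c w hw : Subgroup T) : Set T) ⊆
      ↑({1, w, ρ w, ρ (ρ w)} : Finset T) := by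
    intro z hz
    have hz' : z = 1 ∨ z = w ∨ z = ρ w ∨ z = ρ (ρ w) := hz
    simpa using hz'
  calc Nat.card (N8_W ρ D c w hw) = ((N8_W ρ D c w hw : Subgroup T) : Set T).ncard :=
        Nat.card_coe_set_eq _
    _ ≤ (↑({1, w, ρ w, ρ (ρ w)} : Finset T) : Set T).ncard :=
        Set.ncard_le_ncard hsub (Finset.finite_toSet _)
    _ = ({1, w, ρ w, ρ (ρ w)} : Finset T).card := Set.ncard_coe_finset _
    _ ≤ 4 := Finset.card_le_four

theorem card_comm_le {T : Type*} [Group T] [Finite T] (ρ : MulAut T) (D : Subgroup T)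
    (c : Cfg ρ D) (a b : T) (htop : Subgroup.closure {a, ρ a, b, ρ b} ⊔ D = ⊤) :
    Nat.card (commutator T) ≤ 4 := by
  have hw : ⁅a, b⁆ ∈ D := c.comm a b
  have m1 : (1 : T) ∈ N8_W ρ D c ⁅a, b⁆ hw := Or.inl rfl
  have mw : ⁅a, b⁆ ∈ N8_W ρ D c ⁅a, b⁆ hw := Or.inr (Or.inl rfl)
  have mu : ρ ⁅a, b⁆ ∈ N8_W ρ D c ⁅a, b⁆ hw := Or.inr (Or.inr (Or.inl rfl))
  have mv : ρ (ρ ⁅a, b⁆) ∈ N8_W ρ D c ⁅a, b⁆ hw := Or.inr (Or.inr (Or.inr rfl))
  have f2 : ⁅a, ρ a⁆ = 1 := B2_self c a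
  have f4 : ⁅a, ρ b⁆ = ρ (ρ ⁅a, b⁆) := twist_right c a b
  have f5 : ⁅ρ a, a⁆ = 1 := by rw [comm_symm c]; exact f2
  have f7 : ⁅ρ a, b⁆ = ρ (ρ ⁅a, b⁆) := twist_left c a b
  have f8 : ⁅ρ a, ρ b⁆ = ρ ⁅a, b⁆ := (comm_rho a b).symm
  have f9 : ⁅b, a⁆ = ⁅a, b⁆ := comm_symm c b a
  have f10 : ⁅b, ρ a⁆ = ρ (ρ ⁅a, b⁆) := by rw [comm_symm c]; exact f7
  have f12 : ⁅b, ρ b⁆ = 1 := B2_self c b
  have f13 : ⁅ρ b, a⁆ = ρ (ρ ⁅a, b⁆) := by rw [comm_symm c]; exact f4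
  have f14 : ⁅ρ b, ρ a⁆ = ρ ⁅a, b⁆ := by rw [comm_symm c]; exact f8
  have f15 : ⁅ρ b, b⁆ = 1 := by rw [comm_symm c]; exact f12
  have hgen : ∀ x ∈ ({a, ρ a, b, ρ b} : Set T), ∀ y ∈ ({a, ρ a, b, ρ b} : Set T),
      ⁅x, y⁆ ∈ N8_W ρ D c ⁅a, b⁆ hw := by
    intro x hx y hy
    simp only [Set.mem_insert_iff, Set.mem_singleton_iff] at hx hy
    rcases hx with rfl | rfl | rfl | rfl <;> rcases hy with rfl | rfl | rfl | rfl <;>
      first
        | (rw [commutatorElement_self]; exact m1)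
        | exact mw
        | (rw [f2]; exact m1) | (rw [f4]; exact mv) | (rw [f5]; exact m1) | (rw [f7]; exact mv)
        | (rw [f8]; exact mu) | (rw [f9]; exact mw) | (rw [f10]; exact mv) | (rw [f12]; exact m1)
        | (rw [f13]; exact mv) | (rw [f14]; exact mu) | (rw [f15]; exact m1)
  have hDl : ∀ d ∈ D, ∀ y : T, ⁅d, y⁆ ∈ N8_W ρ D c ⁅a, b⁆ hw := by
    intro d hd y
    rw [(comm_eq_one_iff d y).2 (c.cen d hd y)]; exact m1
  have hDr : ∀ d ∈ D, ∀ x : T, ⁅x, d⁆ ∈ N8_W ρ D c ⁅a, b⁆ hw := by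
    intro d hd x
    rw [(comm_eq_one_iff x d).2 (c.cen d hd x).symm]; exact m1
  -- left variable
  have step1 : ∀ y ∈ ({a, ρ a, b, ρ b} : Set T), ∀ x : T, ⁅x, y⁆ ∈ N8_W ρ D c ⁅a, b⁆ hw := by
    intro y hy x
    let φ : T →* T := MonoidHom.mk' (fun x => ⁅x, y⁆) (fun x x' => comm_mul_left c x x' y)
    have hle : Subgroup.closure {a, ρ a, b, ρ b} ⊔ D ≤ (N8_W ρ D c ⁅a, b⁆ hw).comap φ := by
      refine sup_le ?_ ?_
      · rw [Subgroup.closure_le]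
        intro x hx
        exact hgen x hx y hy
      · intro d hd
        exact hDl d hd y
    rw [htop] at hle
    exact hle (Subgroup.mem_top x)
  have step2 : ∀ x y : T, ⁅x, y⁆ ∈ N8_W ρ D c ⁅a, b⁆ hw := by
    intro x y
    let ψ : T →* T := MonoidHom.mk' (fun y => ⁅x, y⁆) (fun y y' => comm_mul_right c x y y')
    have hle : Subgroup.closure {a, ρ a, b, ρ b} ⊔ D ≤ (N8_W ρ D c ⁅a, b⁆ hw).comap ψ := by
      refine sup_le ?_ ?_
      · rw [Subgroup.closure_le]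
        intro y hy
        exact step1 y hy x
      · intro d hd
        exact hDr d hd x
    rw [htop] at hle
    exact hle (Subgroup.mem_top y)
  have hle : commutator T ≤ N8_W ρ D c ⁅a, b⁆ hw := by
    rw [commutator_eq_closure, Subgroup.closure_le]
    rintro _ ⟨x, y, rfl⟩
    exact step2 x y
  exact (Subgroup.card_le_of_le hle).trans (N8_card ρ D c _ hw)

end Cfsg.Agent.Lib.Helper47.T2933
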