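import Mathlib
import Cfsg.Agent.Lib.Helper47.T2933.Defs
import Cfsg.Agent.Lib.Helper47.T2933.PartAB
import Cfsg.Agent.Lib.Helper47.T2933.N1
import Cfsg.Agent.Lib.Helper47.T2933.N2
import Cfsg.Agent.Lib.Helper47.T2933.N5
import Cfsg.Agent.Lib.Helper47.T2933.N6
import Cfsg.Agent.Lib.Helper47.T2933.N7
import Cfsg.Agent.Lib.Helper47.T2933.N8

set_option autoImplicit false

/-! S2933 PART N (a non-abelian `T` has order 64): assembly -/

namespace Cfsg.Agent.Lib.Helper47.T2933

open Cfsg.Agent.Lib.Helper47.T64
open scoped commutatorElement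

theorem card_of_nonabelian {T : Type*} [Group T] [Finite T] (hT : IsPGroup 2 T) (ρ t : MulAut T)
    (h : Hyp ρ t) (hna : ∃ g k : T, g * k ≠ k * g) : Nat.card T = 64 := by
  obtain ⟨h16, hsq⟩ := quot_elem hT ρ t h hna
  have hcen := comm_central ρ h.cube h.fpf
  have c := cfg_comm ρ h.cube h.fpf hcen hsq
  obtain ⟨a, b, hab⟩ := hna
  have hidx : (commutator T).index = 16 := h16
  have htop := gen_top ρ _ c hidx a b hab
  have hle := card_comm_le ρ _ c a b htop
  have hm := card_mod3 ρ h.cube h.fpf (commutator T) (comm_inv ρ)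
  have hne : Nat.card (commutator T) ≠ 1 := by
    intro h1
    have hbot : commutator T = ⊥ := (Subgroup.card_eq_one).mp h1
    apply hab
    have hmem : ⁅a, b⁆ ∈ commutator T :=
      Subgroup.commutator_mem_commutator (Subgroup.mem_top _) (Subgroup.mem_top _)
    rw [hbot, Subgroup.mem_bot] at hmem
    exact (comm_eq_one_iff a b).mp hmem
  have h4 : Nat.card (commutator T) = 4 := by
    generalize Nat.card (commutator T) = n at *
    interval_cases n <;> omega
  have := (commutator T).card_mul_index
  rw [h4, hidx] at this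
  omega

end Cfsg.Agent.Lib.Helper47.T2933
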