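import Mathlib
import Cfsg.Agent.Lib.Helper47.T2933.Defs
import Cfsg.Agent.Lib.Helper47.T64.B1
import Cfsg.Agent.Lib.Helper47.T64.B2
import Cfsg.Agent.Lib.Helper47.T64.B3

set_option autoImplicit false

/-! T2933 piece PM1.  A non-central involution has a non-commuting involution partner. -/
namespace Cfsg.Agent.Lib.Helper47.T2933

open Cfsg.Agent.Lib.Helper54 (K4)
open Cfsg.Agent.Lib.Helper47.T64
open scoped commutatorElement

variable {T : Type*} [Group T] {ρ : MulAut T} {Z : Subgroup T}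

theorem invol_pair [Finite T] (c : Cfg ρ Z) (hZ : Nat.card Z = 4)
    (hcen : ∀ g : T, (∀ k, g * k = k * g) → g ∈ Z) (a : T) (ha : a * a = 1) (haZ : a ∉ Z) :
    ∃ b : T, b * b = 1 ∧ a * b ≠ b * a := by
  have h0 : ∃ b0 : T, a * b0 ≠ b0 * a := by
    by_contra hcon
    push Not at hcon
    exact haZ (hcen a hcon)
  obtain ⟨b0, hb0⟩ := h0
  have hab0 : ⁅a, b0⁆ ≠ 1 := fun h => hb0 ((comm_eq_one_iff a b0).1 h)
  have hw1 : ⁅b0, a⁆ ≠ 1 := by rw [comm_symm c b0 a]; exact hab0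
  have hw : ⁅b0, a⁆ ∈ Z := c.comm b0 a
  -- generic step
  have key : ∀ a' : T, a' * a' = 1 → ⁅b0, a'⁆ = b0 * b0 → ⁅a, a'⁆ = 1 →
      ∃ b : T, b * b = 1 ∧ a * b ≠ b * a := by
    intro a' h1 h2 h3
    refine ⟨b0 * a', ?_, ?_⟩
    · rw [sq_mul c, h1, mul_one, h2]
      exact c.zsq _ (c.sq b0)
    · intro h
      have h4 := (comm_eq_one_iff a (b0 * a')).2 h
      rw [comm_mul_right c, h3, mul_one] at h4
      exact hab0 h4
  rcases Z_cases c hZ _ hw hw1 (b0 * b0) (c.sq b0) with h | h | h | h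
  · exact ⟨b0, h, hb0⟩
  · refine key a ha h.symm ?_
    simp
  · refine key (ρ (ρ a)) ?_ ?_ ?_
    · rw [← map_mul, ← map_mul, ha, map_one, map_one]
    · rw [twist_right2 c, h]
    · rw [twist_right2 c]; simp
  · refine key (ρ a) ?_ ?_ ?_
    · rw [← map_mul, ha, map_one]
    · rw [twist_right c, h]
    · exact B2_self c a

end Cfsg.Agent.Lib.Helper47.T2933
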