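import Mathlib
import Cfsg.Agent.Lib.Helper47.T2933.Defs
import Cfsg.Agent.Lib.Helper47.T64.B1
import Cfsg.Agent.Lib.Helper47.T64.B2
import Cfsg.Agent.Lib.Helper47.T64.B3

set_option autoImplicit false

/-! T2933 piece PM2.  Normal form in the minus case (no non-central involutions).

TOOLS as in PM1 (T64: B1, B2, B3).
PROOF. By `hna` and `c.cen` there is `a ∉ Z` (a central... precisely: take `g k` non-commuting, then `g ∉ Z`), and `b0` with `⁅a, b0⁆ ≠ 1`.  `z = a * a ∈ Z`, `z ≠ 1` by `hD`.  `w0 = ⁅a, b0⁆`.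
By `Z_cases c hZ w0`, `z ∈ {w0, ρ w0, ρ (ρ w0)}`; put `b1 = b0`, `ρ (ρ b0)`, `ρ b0` respectively; then `⁅a, b1⁆ = z` (`twist_right2`, `twist_right`).  Write `w = z = a * a = ⁅a, b1⁆`.
`b1 * b1 ∈ Z` is `1`, `w`, `ρ w` or `ρ (ρ w)` (`Z_cases c hZ w`):
* `ρ (ρ w)` : take `b = b1`.
* `ρ w` : `b = b1 * ρ a`; `b * b = b1 * b1 * (ρ a * ρ a) * ⁅b1, ρ a⁆ = ρ w * ρ w * ρ (ρ ⁅b1, a⁆) = ρ (ρ w)` (`sq_mul`, `ρ a * ρ a = ρ w`, `c.zsq`, `twist_right`, `comm_symm`); `⁅a, b⁆ = ⁅a, b1⁆ * ⁅a, ρ a⁆ = w`.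
* `1` : `b1 ∈ Z` by `hD`, so `⁅a, b1⁆ = 1`, contradiction.
* `w` : `b' = b1 * ρ a` has `b' * b' = w * ρ w * ρ (ρ w) = 1` (`c.tr w`), so `b' ∈ Z` by `hD`, but `⁅a, b'⁆ = w ≠ 1`, contradiction. -/
namespace Cfsg.Agent.Lib.Helper47.T2933

open Cfsg.Agent.Lib.Helper54 (K4)
open Cfsg.Agent.Lib.Helper47.T64
open scoped commutatorElement

variable {T : Type*} [Group T] {ρ : MulAut T} {Z : Subgroup T}

theorem normal_form [Finite T] (c : Cfg ρ Z) (hZ : Nat.card Z = 4)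
    (hna : ∃ g k : T, g * k ≠ k * g) (hD : ∀ g : T, g * g = 1 → g ∈ Z) :
    ∃ a b : T, ⁅a, b⁆ ≠ 1 ∧ a * a = ⁅a, b⁆ ∧ b * b = ρ (ρ ⁅a, b⁆) := by
  obtain ⟨a, b0, hab⟩ := hna
  have hw0 : ⁅a, b0⁆ ≠ 1 := fun h => hab ((comm_eq_one_iff a b0).1 h)
  have haZ : a ∉ Z := fun h => hab (c.cen a h b0)
  have hz1 : a * a ≠ 1 := fun h => haZ (hD a h)
  have hzZ : a * a ∈ Z := c.sq a
  have hb1 : ∃ b1, ⁅a, b1⁆ = a * a := by
    rcases Z_cases c hZ ⁅a, b0⁆ (c.comm a b0) hw0 (a * a) hzZ with h | h | h | h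
    · exact absurd h hz1
    · exact ⟨b0, h.symm⟩
    · exact ⟨ρ (ρ b0), by rw [twist_right2 c, h]⟩
    · exact ⟨ρ b0, by rw [twist_right c, h]⟩
  obtain ⟨b1, hb1⟩ := hb1
  obtain ⟨w, hw⟩ : ∃ w, w = a * a := ⟨_, rfl⟩
  rw [← hw] at hz1 hzZ hb1
  have hρa : ρ a * ρ a = ρ w := by rw [hw, map_mul]
  have hcomm : ⁅a, b1 * ρ a⁆ = w := by rw [comm_mul_right c, B2_self c, mul_one, hb1]
  have hsq : (b1 * ρ a) * (b1 * ρ a) = b1 * b1 * ρ w * ρ (ρ w) := by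
    rw [sq_mul c, hρa, twist_right c, comm_symm c b1 a, hb1]
  rcases Z_cases c hZ w hzZ hz1 (b1 * b1) (c.sq b1) with h | h | h | h
  · exfalso
    have h3 := hD b1 h
    apply hz1
    rw [← hb1, comm_symm c, B1_comm_cen c a b1 h3]
  · exfalso
    have h2 : (b1 * ρ a) * (b1 * ρ a) = 1 := by rw [hsq, h, c.tr w]
    have h3 := hD _ h2
    apply hz1
    rw [← hcomm, comm_symm c, B1_comm_cen c a _ h3]
  · refine ⟨a, b1 * ρ a, by rw [hcomm]; exact hz1, by rw [hcomm, hw], ?_⟩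
    rw [hsq, h, hcomm, c.zsq _ (c.inv w hzZ), one_mul]
  · exact ⟨a, b1, by rw [hb1]; exact hz1, by rw [hb1, hw], by rw [hb1, h]⟩

end Cfsg.Agent.Lib.Helper47.T2933
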