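import Mathlib
import Cfsg.Agent.Lib.Helper47.T2933.Defs
import Cfsg.Agent.Lib.Helper47.T64.B1
import Cfsg.Agent.Lib.Helper47.T64.B3
import Cfsg.Agent.Lib.Helper47.T64.H3

set_option autoImplicit false

/-! T2933 piece PM3.  `sel g (ρ g) (ρ² g)` is additive up to the cocycle `κ s s'`. -/
namespace Cfsg.Agent.Lib.Helper47.T2933

open Cfsg.Agent.Lib.Helper54 (K4)
open Cfsg.Agent.Lib.Helper47.T64
open scoped commutatorElement

theorem PM3_table {T : Type*} [Group T] (g0 g1 g2 w1 w2 w3 : T) (κ : K4)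
    (E11 : g0 * g0 = sel w1 w2 w3 κ) (E22 : g1 * g1 = sel w1 w2 w3 (κ * ⟨3⟩))
    (E33 : g2 * g2 = sel w1 w2 w3 (κ * ⟨2⟩))
    (E12 : g0 * g1 = g2 * sel w1 w2 w3 (κ * ⟨2⟩)) (E21 : g1 * g0 = g2 * sel w1 w2 w3 (κ * ⟨2⟩))
    (E13 : g0 * g2 = g1 * sel w1 w2 w3 (κ * ⟨3⟩)) (E31 : g2 * g0 = g1 * sel w1 w2 w3 (κ * ⟨3⟩))
    (E23 : g1 * g2 = g0 * sel w1 w2 w3 κ) (E32 : g2 * g1 = g0 * sel w1 w2 w3 κ) :
    ∀ s s' : K4, sel g0 g1 g2 s * sel g0 g1 g2 s' =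
      sel g0 g1 g2 (s + s') * sel w1 w2 w3 (κ * s * s') := by
  intro s s'
  obtain ⟨k⟩ := κ
  obtain ⟨n⟩ := s
  obtain ⟨n'⟩ := s'
  fin_cases k <;> fin_cases n <;> fin_cases n' <;>
  first
  | exact (one_mul _).trans (mul_one _).symm
  | exact rfl
  | exact E11.trans (one_mul _).symm
  | exact E22.trans (one_mul _).symm
  | exact E33.trans (one_mul _).symm
  | exact E12
  | exact E21
  | exact E13
  | exact E31
  | exact E23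
  | exact E32

theorem PM3_inv {T : Type*} [Group T] (a b c : T) (h : a * b * c = 1) (h4 : c * c * (c * c) = 1) :
    a * b = c * (c * c) := by
  have h1 : a * b = c⁻¹ := eq_inv_of_mul_eq_one_left h
  rw [h1]
  symm
  apply eq_inv_of_mul_eq_one_left
  rw [← h4]
  group

variable {T : Type*} [Group T] {ρ : MulAut T} {Z : Subgroup T}

theorem PM3_rho (c : Cfg ρ Z) (w : T) (k : K4) :
    ρ (sel w (ρ (ρ w)) (ρ w) k) = sel w (ρ (ρ w)) (ρ w) (k * ⟨3⟩) := by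
  obtain ⟨n⟩ := k
  fin_cases n
  · exact map_one ρ
  · exact rfl
  · exact c.cube w
  · exact rfl

theorem PM3_rho2 (c : Cfg ρ Z) (w : T) (k : K4) :
    ρ (ρ (sel w (ρ (ρ w)) (ρ w) k)) = sel w (ρ (ρ w)) (ρ w) (k * ⟨2⟩) := by
  obtain ⟨n⟩ := k
  fin_cases n
  · exact (congrArg ρ (map_one ρ)).trans (map_one ρ)
  · exact rfl
  · exact c.cube (ρ w)
  · exact c.cube w

theorem sel_quasi (c : Cfg ρ Z) (w : T) (hw : w ∈ Z) (g : T) (κ : K4)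
    (hg : g * g = sel w (ρ (ρ w)) (ρ w) κ) : ∀ s s' : K4,
    sel g (ρ g) (ρ (ρ g)) s * sel g (ρ g) (ρ (ρ g)) s' =
      sel g (ρ g) (ρ (ρ g)) (s + s') * sel w (ρ (ρ w)) (ρ w) (κ * s * s') := by
  have E22 : ρ g * ρ g = sel w (ρ (ρ w)) (ρ w) (κ * ⟨3⟩) := by
    rw [← PM3_rho c, ← hg, map_mul]
  have E33 : ρ (ρ g) * ρ (ρ g) = sel w (ρ (ρ w)) (ρ w) (κ * ⟨2⟩) := by
    rw [← PM3_rho2 c, ← hg, map_mul, map_mul]
  have q : ∀ x : T, x * x * (x * x) = 1 := fun x => c.zsq _ (c.sq x)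
  have E12 : g * ρ g = ρ (ρ g) * sel w (ρ (ρ w)) (ρ w) (κ * ⟨2⟩) := by
    rw [← E33]
    exact PM3_inv _ _ _ (c.tr g) (q _)
  have E23 : ρ g * ρ (ρ g) = g * sel w (ρ (ρ w)) (ρ w) κ := by
    rw [← hg]
    have := c.tr (ρ g)
    rw [c.cube] at this
    exact PM3_inv _ _ _ this (q _)
  have E31 : ρ (ρ g) * g = ρ g * sel w (ρ (ρ w)) (ρ w) (κ * ⟨3⟩) := by
    rw [← E22]
    have := c.tr (ρ (ρ g))
    rw [c.cube] at this
    exact PM3_inv _ _ _ this (q _)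
  have E21 : ρ g * g = ρ (ρ g) * sel w (ρ (ρ w)) (ρ w) (κ * ⟨2⟩) := by
    rw [← c.cm g]; exact E12
  have E32 : ρ (ρ g) * ρ g = g * sel w (ρ (ρ w)) (ρ w) κ := by
    rw [← c.cm (ρ g)]; exact E23
  have E13 : g * ρ (ρ g) = ρ g * sel w (ρ (ρ w)) (ρ w) (κ * ⟨3⟩) := by
    have := c.cm (ρ (ρ g))
    rw [c.cube] at this
    rw [← this]; exact E31
  exact PM3_table _ _ _ _ _ _ κ hg E22 E33 E12 E21 E13 E31 E23 E32

end Cfsg.Agent.Lib.Helper47.T2933
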