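import Mathlib
import Cfsg.Agent.Lib.Helper47.T2933.Defs

set_option autoImplicit false

/-! T2933 piece PM4.  Abstract recognition of `HB α γ` over `K4` (generalizes `T64.iso_of_maps`). -/
namespace Cfsg.Agent.Lib.Helper47.T2933

open Cfsg.Agent.Lib.Helper54 (K4)
open Cfsg.Agent.Lib.Helper47.T64
open scoped commutatorElement

theorem PM4_key {T : Type*} [Group T] (b a w b' a' w' u : T) (hw : ∀ g, w * g = g * w)
    (hu : ∀ g, u * g = g * u) (h : a * b' = b' * a * u) :
    b * a * w * (b' * a' * w') = b * b' * (a * a') * (w * w' * u) := by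
  calc b * a * w * (b' * a' * w') = b * a * (w * (b' * a')) * w' := by simp only [mul_assoc]
    _ = b * a * ((b' * a') * w) * w' := by rw [hw]
    _ = b * (a * b') * a' * w * w' := by simp only [mul_assoc]
    _ = b * (b' * a * u) * a' * w * w' := by rw [h]
    _ = b * b' * a * (u * a') * w * w' := by simp only [mul_assoc]
    _ = b * b' * a * (a' * u) * w * w' := by rw [hu]
    _ = b * b' * (a * a') * (u * (w * w')) := by simp only [mul_assoc]
    _ = b * b' * (a * a') * (w * w' * u) := by rw [hu]

theorem PM4_zero {T : Type*} [Group T] (A : K4 → T) (hA : ∀ k k', A (k + k') = A k * A k') :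
    A 0 = 1 := by
  have := hA 0 0
  rw [add_zero] at this
  exact (mul_eq_left.1 this.symm)

theorem PM4_card (α γ : K4) : Nat.card (HB α γ) = 64 := by
  have e : HB α γ ≃ K4 × K4 × K4 :=
    ⟨fun x => (x.s, x.t, x.c), fun y => ⟨y.1, y.2.1, y.2.2⟩, fun _ => rfl, fun _ => rfl⟩
  rw [Nat.card_congr e, Nat.card_prod, Nat.card_prod, Nat.card_eq_fintype_card, K4.card_eq]

theorem iso_of_maps' {T : Type*} [Group T] [Finite T] (hT : Nat.card T = 64) (α γ : K4)
    (A B W : K4 → T)
    (hA : ∀ k k', A k * A k' = A (k + k') * W (α * k * k'))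
    (hB : ∀ k k', B k * B k' = B (k + k') * W (γ * k * k'))
    (hW : ∀ k k', W (k + k') = W k * W k') (hcen : ∀ k g, W k * g = g * W k)
    (hk : ∀ s t, A s * B t = B t * A s * W (s * t)) (hinj : ∀ k, W k = 1 → k = 0) :
    Nonempty (T ≃* HB α γ) := by
  have hW0 := PM4_zero W hW
  have hA0 : A 0 = 1 := by
    have := hA 0 0
    rw [add_zero, mul_zero, hW0, mul_one] at this
    exact mul_eq_left.1 this
  have hB0 : B 0 = 1 := by
    have := hB 0 0
    rw [add_zero, mul_zero, hW0, mul_one] at this
    exact mul_eq_left.1 this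
  let Θ : HB α γ →* T :=
    { toFun := fun x => B x.t * A x.s * W x.c
      map_one' := by
        show B 0 * A 0 * W 0 = 1
        rw [hA0, hB0, hW0]; simp
      map_mul' := by
        intro x y
        show B (x.t + y.t) * A (x.s + y.s) *
            W (x.c + y.c + x.s * y.t + α * x.s * y.s + γ * x.t * y.t)
          = B x.t * A x.s * W x.c * (B y.t * A y.s * W y.c)
        rw [PM4_key _ _ _ _ _ _ _ (hcen x.c) (hcen (x.s * y.t)) (hk x.s y.t), hA, hB, hW, hW, hW,
          hW]
        calc B (x.t + y.t) * A (x.s + y.s) *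
              (W x.c * W y.c * W (x.s * y.t) * W (α * x.s * y.s) * W (γ * x.t * y.t))
            = B (x.t + y.t) * A (x.s + y.s) *
              ((W x.c * W y.c * W (x.s * y.t) * W (α * x.s * y.s)) * W (γ * x.t * y.t)) := by
              simp only [mul_assoc]
          _ = B (x.t + y.t) * A (x.s + y.s) *
              (W (γ * x.t * y.t) * (W x.c * W y.c * W (x.s * y.t) * W (α * x.s * y.s))) := by
              rw [hcen (γ * x.t * y.t)]
          _ = B (x.t + y.t) * (A (x.s + y.s) * W (γ * x.t * y.t)) *
              ((W x.c * W y.c * W (x.s * y.t)) * W (α * x.s * y.s)) := by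
              simp only [mul_assoc]
          _ = B (x.t + y.t) * (W (γ * x.t * y.t) * A (x.s + y.s)) *
              (W (α * x.s * y.s) * (W x.c * W y.c * W (x.s * y.t))) := by
              rw [hcen (γ * x.t * y.t), hcen (α * x.s * y.s)]
          _ = _ := by simp only [mul_assoc] }
  have hΘ : ∀ x : HB α γ, Θ x = B x.t * A x.s * W x.c := fun _ => rfl
  have hAA : ∀ k k', Commute (A k) (A k') := by
    intro k k'
    show A k * A k' = A k' * A k
    rw [hA, hA, add_comm, mul_assoc α, mul_assoc α, mul_comm k]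
  have hBB : ∀ k k', Commute (B k) (B k') := by
    intro k k'
    show B k * B k' = B k' * B k
    rw [hB, hB, add_comm, mul_assoc γ, mul_assoc γ, mul_comm k]
  have hWW : ∀ k g, Commute (W k) g := fun k g => hcen k g
  have hΘinj : Function.Injective Θ := by
    rw [injective_iff_map_eq_one]
    intro x hx
    rw [hΘ] at hx
    have hs : x.s = 0 := by
      have e : A x.s = (B x.t)⁻¹ * (W x.c)⁻¹ := by
        calc A x.s = (B x.t)⁻¹ * (B x.t * A x.s * W x.c) * (W x.c)⁻¹ := by group
          _ = _ := by rw [hx]; group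
      have hcm : Commute (A x.s) (B 1) := by
        rw [e]
        exact ((hBB x.t 1).inv_left).mul_left ((hWW x.c (B 1)).inv_left)
      have h1 := hk x.s 1
      rw [hcm.eq, mul_one] at h1
      exact hinj _ (left_eq_mul.1 h1)
    have ht : x.t = 0 := by
      have e : B x.t = (W x.c)⁻¹ * (A x.s)⁻¹ := by
        calc B x.t = (B x.t * A x.s * W x.c) * (W x.c)⁻¹ * (A x.s)⁻¹ := by group
          _ = _ := by rw [hx]; group
      have hcm : Commute (A 1) (B x.t) := by
        rw [e]
        exact ((hWW x.c (A 1)).inv_left.symm).mul_right ((hAA 1 x.s).inv_right)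
      have h1 := hk 1 x.t
      rw [hcm.eq, one_mul] at h1
      exact hinj _ (left_eq_mul.1 h1)
    have hc : x.c = 0 := by
      rw [hs, ht, hA0, hB0, one_mul, one_mul] at hx
      exact hinj _ hx
    exact HB.ext hs ht hc
  have hbij : Function.Bijective Θ :=
    (Nat.bijective_iff_injective_and_card Θ).2 ⟨hΘinj, by rw [PM4_card, hT]⟩
  exact ⟨(MulEquiv.ofBijective Θ hbij).symm⟩

end Cfsg.Agent.Lib.Helper47.T2933
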