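import Mathlib
import Cfsg.Agent.Lib.Helper47.T2933.Defs
import Cfsg.Agent.Lib.Helper20.U3Syl

set_option autoImplicit false

/-! T2933 piece PM6.  The group `UU F 4` (`|F| = 16`) has a fixed-point-free automorphism of order 3:
`scal l` for an element `l` of order 3 of the multiplicative group. -/
namespace Cfsg.Agent.Lib.Helper47.T2933

open Cfsg.Agent.Lib.Helper54 (K4)
open Cfsg.Agent.Lib.Helper47.T64
open scoped commutatorElement

open Cfsg.Agent.Lib.Helper20.U3Syl (UU)

theorem uu_fpf {F : Type*} [Field F] [Fintype F] [Fact (Fintype.card F = 4 ^ 2)]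
    [Fact ((2 : F) = 0)] :
    ∃ r : MulAut (UU F 4), (∀ g, r (r (r g)) = g) ∧ (∀ g, r g = g → g = 1) := by
  classical
  have hcardF : Fintype.card F = 4 ^ 2 := Fact.out
  have hcard : Fintype.card Fˣ = 15 := by
    rw [Fintype.card_units, hcardF]; norm_num
  have : Fact (Nat.Prime 3) := ⟨by norm_num⟩
  obtain ⟨l, hl⟩ := exists_prime_orderOf_dvd_card (G := Fˣ) 3 (by rw [hcard]; norm_num)
  have hl3 : l ^ 3 = 1 := by rw [← hl]; exact pow_orderOf_eq_one l
  have hl1 : l ≠ 1 := by
    intro h
    rw [h, orderOf_one] at hl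
    omega
  have hl3' : (l : F) ^ 3 = 1 := by
    have := congrArg (fun u : Fˣ => (u : F)) hl3
    simpa using this
  have hl1' : (l : F) ≠ 1 := by
    intro h
    exact hl1 (Units.ext h)
  have hl0 : (l : F) ≠ 0 := l.ne_zero
  have hl5 : (l : F) ^ 5 ≠ 1 := by
    intro h
    have h2 : (l : F) ^ 2 = 1 := by
      calc (l : F) ^ 2 = (l : F) ^ 3 * (l : F) ^ 2 := by rw [hl3', one_mul]
        _ = (l : F) ^ 5 := by ring
        _ = 1 := h
    apply hl1'
    calc (l : F) = (l : F) ^ 2 * (l : F) := by rw [h2, one_mul]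
      _ = (l : F) ^ 3 := by ring
      _ = 1 := hl3'
  refine ⟨Cfsg.Agent.Lib.Helper20.U3Syl.scal l, ?_, ?_⟩
  · intro g
    apply UU.ext
    · simp only [Cfsg.Agent.Lib.Helper20.U3Syl.scal_apply, Cfsg.Agent.Lib.Helper20.U3Syl.scalFun_a]
      calc (l : F) * ((l : F) * ((l : F) * g.a)) = (l : F) ^ 3 * g.a := by ring
        _ = g.a := by rw [hl3', one_mul]
    · simp only [Cfsg.Agent.Lib.Helper20.U3Syl.scal_apply, Cfsg.Agent.Lib.Helper20.U3Syl.scalFun_c]
      calc (l : F) ^ (4 + 1) * ((l : F) ^ (4 + 1) * ((l : F) ^ (4 + 1) * g.c))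
          = ((l : F) ^ 3) ^ 5 * g.c := by ring
        _ = g.c := by rw [hl3', one_pow, one_mul]
  · intro g hg
    have ha : (l : F) * g.a = g.a := by
      have := congrArg UU.a hg
      simpa using this
    have hc : (l : F) ^ (4 + 1) * g.c = g.c := by
      have := congrArg UU.c hg
      simpa using this
    apply UU.ext
    · show g.a = 0
      have : ((l : F) - 1) * g.a = 0 := by linear_combination ha
      rcases mul_eq_zero.mp this with h | h
      · exact absurd (sub_eq_zero.mp h) hl1'
      · exact h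
    · show g.c = 0
      have : ((l : F) ^ 5 - 1) * g.c = 0 := by linear_combination hc
      rcases mul_eq_zero.mp this with h | h
      · exact absurd (sub_eq_zero.mp h) hl5
      · exact h

end Cfsg.Agent.Lib.Helper47.T2933
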