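import Mathlib
import Cfsg.Agent.Lib.Helper47.T2933.Defs
import Cfsg.Agent.Lib.Helper47.T2933.PM1
import Cfsg.Agent.Lib.Helper47.T2933.PM2
import Cfsg.Agent.Lib.Helper47.T2933.PM3
import Cfsg.Agent.Lib.Helper47.T2933.PM4
import Cfsg.Agent.Lib.Helper47.T2933.PM6
import Cfsg.Agent.Lib.Helper47.T64.Main

set_option autoImplicit false

/-! S2933 PART PM (helper47): order 64, plus or minus type. -/

namespace Cfsg.Agent.Lib.Helper47.T2933

open Cfsg.Agent.Lib.Helper54 (K4)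
open Cfsg.Agent.Lib.Helper47.T64
open Cfsg.Agent.Lib.Helper20.U3Syl (UU)
open scoped commutatorElement

/-- the minus type group is `HB 1 ω` -/
theorem iso_minus {T : Type*} [Group T] [Finite T] (hT : Nat.card T = 64) (ρ : MulAut T)
    (Z : Subgroup T) (c : Cfg ρ Z) (a b : T) (hw1 : ⁅a, b⁆ ≠ 1) (ha : a * a = ⁅a, b⁆)
    (hb : b * b = ρ (ρ ⁅a, b⁆)) : Nonempty (T ≃* HB (1 : K4) om) := by
  have hwZ : ⁅a, b⁆ ∈ Z := c.comm a b
  have hρ1 : ∀ g : T, g ≠ 1 → ρ g ≠ 1 := by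
    intro g hg h
    apply hg
    have : ρ g = ρ 1 := by rw [h, map_one]
    exact ρ.injective this
  obtain ⟨w, hw⟩ : ∃ w, w = ⁅a, b⁆ := ⟨_, rfl⟩
  have hk := kappa c a b
  rw [← hw] at hw1 ha hb hwZ hk
  have hww : w * w = 1 := c.zsq w hwZ
  have hW : ∀ k k' : K4, sel w (ρ (ρ w)) (ρ w) (k + k') =
      sel w (ρ (ρ w)) (ρ w) k * sel w (ρ (ρ w)) (ρ w) k' := by
    have h2 : ρ w * ρ w = 1 := by rw [← map_mul, hww, map_one]
    have h3 : ρ (ρ w) * ρ (ρ w) = 1 := by rw [← map_mul, h2, map_one]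
    have h12 : w * ρ w = ρ (ρ w) := tr_Z c w hwZ
    have h13 : w * ρ (ρ w) = ρ w := by
      rw [← h12, ← mul_assoc, hww, one_mul]
    have h31 : ρ (ρ w) * w = ρ w := by
      rw [← c.cen w hwZ]; exact h13
    exact sel_add w (ρ (ρ w)) (ρ w) hww h3 h2 h13 h31
  refine iso_of_maps' hT 1 om (sel a (ρ a) (ρ (ρ a))) (sel b (ρ b) (ρ (ρ b)))
    (sel w (ρ (ρ w)) (ρ w)) (sel_quasi c w hwZ a 1 ha) (sel_quasi c w hwZ b om hb) hW ?_ hk ?_
  · intro k g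
    exact c.cen _ (sel_mem Z _ _ _ hwZ (c.inv _ (c.inv _ hwZ)) (c.inv _ hwZ) k) g
  · exact sel_eq_one _ _ _ hw1 (hρ1 _ (hρ1 _ hw1)) (hρ1 _ hw1)

/-- dichotomy for a non-abelian group of order 64 with a fixed-point-free automorphism of order 3 -/
theorem heis_or_minus {T : Type*} [Group T] [Finite T] (hT : Nat.card T = 64)
    (hna : ∃ g k : T, g * k ≠ k * g) (ρ : MulAut T) (h3 : ∀ g, ρ (ρ (ρ g)) = g)
    (hfp : ∀ g, ρ g = g → g = 1) :
    (∃ a : T, a * a = 1 ∧ a ∉ Subgroup.center T ∧ Nonempty (T ≃* Heis K4)) ∨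
      Nonempty (T ≃* HB (1 : K4) om) := by
  obtain ⟨c, hZ⟩ := cfg_center hT hna ρ h3 hfp
  by_cases hD : ∀ g : T, g * g = 1 → g ∈ Subgroup.center T
  · right
    obtain ⟨a, b, hw1, ha, hb⟩ := normal_form c hZ hna hD
    exact iso_minus hT ρ _ c a b hw1 ha hb
  · left
    push Not at hD
    obtain ⟨a, ha, haZ⟩ := hD
    have hcen : ∀ g : T, (∀ k, g * k = k * g) → g ∈ Subgroup.center T := by
      intro g hg
      rw [Subgroup.mem_center_iff]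
      intro k
      exact (hg k).symm
    obtain ⟨b, hb, hab⟩ := invol_pair c hZ hcen a ha haZ
    exact ⟨a, ha, haZ, iso_heis hT ρ _ c a b ha hb hab⟩

theorem plus_or_minus {T : Type*} [Group T] [Finite T] (hT : Nat.card T = 64)
    (hna : ∃ g k : T, g * k ≠ k * g) (ρ : MulAut T) (h3 : ∀ g, ρ (ρ (ρ g)) = g)
    (hfp : ∀ g, ρ g = g → g = 1)
    {F : Type*} [Field F] [Fintype F] [Fact (Fintype.card F = 4 ^ 2)] [Fact ((2 : F) = 0)] :
    Nonempty (T ≃* Heis K4) ∨ Nonempty (T ≃* UU F 4) := by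
  rcases heis_or_minus hT hna ρ h3 hfp with ⟨_, _, _, e⟩ | ⟨⟨e⟩⟩
  · exact Or.inl e
  · right
    obtain ⟨r, r3, rfp⟩ := uu_fpf (F := F)
    have hU : Nat.card (UU F 4) = 64 := by
      rw [Cfsg.Agent.Lib.Helper20.U3Syl.card_UU]; norm_num
    rcases heis_or_minus hU Cfsg.Agent.Lib.Helper20.U3Syl.exists_not_comm r r3 rfp with
      ⟨a, ha, haZ, _⟩ | ⟨⟨e'⟩⟩
    · exfalso
      apply haZ
      rw [Cfsg.Agent.Lib.Helper20.U3Syl.mem_center_iff]
      exact (Cfsg.Agent.Lib.Helper20.U3Syl.mul_self_eq_one_iff a).mp ha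
    · exact ⟨e.trans e'.symm⟩

end Cfsg.Agent.Lib.Helper47.T2933
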