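import Mathlib
import Cfsg.Agent.Lib.Helper47.T2933.Defs
import Cfsg.Agent.Lib.Helper47.T2933.PartAB
import Cfsg.Agent.Lib.Helper47.T2933.PartN
import Cfsg.Agent.Lib.Helper47.T2933.PartPM

set_option autoImplicit false

/-! S2933: the abstract theorem -/

namespace Cfsg.Agent.Lib.Helper47.T2933

open Cfsg.Agent.Lib.Helper54 (K4)
open Cfsg.Agent.Lib.Helper47.T64 (Heis Cfg sel)
open Cfsg.Agent.Lib.Helper20.U3Syl (UU)

theorem abs {T : Type*} [Group T] [Finite T] (hT : IsPGroup 2 T) (ρ t : MulAut T) (h : Hyp ρ t)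
    {F : Type*} [Field F] [Fintype F] [Fact (Fintype.card F = 4 ^ 2)] [Fact ((2 : F) = 0)] :
    (Nat.card T = 16 ∧ ∀ x : T, x ^ 2 = 1) ∨
      (∃ n : ℕ, 1 ≤ n ∧
        Nonempty (T ≃* Multiplicative (ZMod (2 ^ n)) × Multiplicative (ZMod (2 ^ n)))) ∨
      Nonempty (T ≃* Heis K4) ∨ Nonempty (T ≃* UU F 4) := by
  by_cases hc : ∀ g k : T, g * k = k * g
  · rcases abelian_case hT ρ t h hc with h1 | ⟨_, _, n, hn, e⟩
    · exact Or.inl h1
    · exact Or.inr (Or.inl ⟨n, hn, e⟩)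
  · push Not at hc
    have h64 := card_of_nonabelian hT ρ t h hc
    rcases plus_or_minus (F := F) h64 hc ρ h.cube h.fpf with e | e
    · exact Or.inr (Or.inr (Or.inl e))
    · exact Or.inr (Or.inr (Or.inr e))

end Cfsg.Agent.Lib.Helper47.T2933
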