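import Mathlib
import Cfsg.Prelude.Def_Classical
import Cfsg.Agent.Lib.Helper47.T2933.Defs
import Cfsg.Agent.Lib.Helper47.T2933.Abs
import Cfsg.Agent.Lib.Helper47.T64.Main
import Cfsg.Agent.Lib.Helper20.U3Syl2

set_option autoImplicit false

/-! S2933 PART R (reduction of the row to `abs`).  CO-ARCHITECT WANTED: keep this statement (= the row S2933).

PROOF. `ρ`, `t` normalize `T`, so conjugation gives `ρ' t' : MulAut ↥T` (`x ↦ ⟨ρ * x * ρ⁻¹, _⟩`, inverse by `ρ⁻¹`; `Subgroup.mem_normalizer_iff`; or `MulAut.conjNormal`-style via `T.subgroupOf (normalizer T)`).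
`Hyp ρ' t'` : `cube` from `ρ ^ 3 = 1`; `tsq` from `t ^ 2 = 1`; `tρ` from `htρ`; `fix4` : `{x : ↥T // t' x = x} ≃ ↥(T ⊓ centralizer {t}) = ↥V`, of order 4 (`hCt`, `hV.1`).
`fpf` : `C = {x ∈ T | ρ x ρ⁻¹ = x}` is a 2-group normalized by `t` (as `t`, `ρ` commute).  If `C ≠ 1`, the involution `t` fixes some `1 ≠ x ∈ C` (`IsPGroup.card_modEq_card_fixedPoints` / a 2-group acting on the set `C` of even size with the fixed point 1),
  so `x ∈ T ⊓ centralizer {t} = V` and `ρ` centralizes `x ∈ V`.  But `⁅V, zpowers ρ⁆ = V` with `|V| = 4` forces `C_V(ρ) = 1` : `ρ` acts on the 3 involutions of `V` with `ρ ^ 3 = 1`; if it fixes one of them it fixes all three (orbits of size 1 or 3), so `⁅V, zpowers ρ⁆ = ⊥ ≠ V`.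
Then `abs` with `F := GaloisField 2 4` (or `Cfsg.Agent.Lib.Helper93.U34.F16`) : card 16 = `4 ^ 2`, characteristic 2.
* first alternative: transport `x ^ 2 = 1` from `↥T` to `x ∈ T`.   * second alternative: as is.
* `T ≃* Heis K4` : `T64.exists_inj_PSL`, `T64.exists_sylow_iso 2 6 315 T64.card_psl _ T64.card_heis` give one Sylow `S₀` with `Heis K4 ≃* S₀`; any `P` is `g • S₀` (`MulAction.exists_smul_eq`), `Sylow.equivSMul S₀ g : S₀ ≃* (g • S₀)`.  `F := K4`, `K4.card_eq`.
* `T ≃* UU F 4` : `Cfsg.Agent.Lib.Helper20.U3Syl.exists_equiv (by decide : Even 4) P : Nonempty (UU F 4 ≃* P)`. -/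

namespace Cfsg.Agent.Lib.Helper47.T2933

open Cfsg.Agent.Lib.Helper54 (K4)
open Cfsg.Agent.Lib.Helper47.T64 (Heis)
open Cfsg.Agent.Lib.Helper20.U3Syl (UU)

/-- an involutory automorphism fixes a nontrivial element of every nontrivial invariant subgroup of a 2-group -/
theorem R_fp {T : Type*} [Group T] [Finite T] (hT : IsPGroup 2 T) (t : MulAut T)
    (tsq : ∀ g, t (t g) = g) (N : Subgroup T) (hN : ∀ g ∈ N, t g ∈ N) (hN1 : N ≠ ⊥) :
    ∃ v ∈ N, v ≠ 1 ∧ t v = v := by
  classical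
  haveI := Fintype.ofFinite N
  haveI : Fact (Nat.Prime 2) := ⟨Nat.prime_two⟩
  let f : Function.End N := fun n => ⟨t n, hN n n.2⟩
  have hf : f ^ 2 ^ 1 = 1 := by
    have e : f ^ 2 ^ 1 = f * f := by rw [pow_one, pow_succ, pow_one]
    rw [e]
    funext n
    apply Subtype.ext
    exact tsq n
  have h1 := Equiv.Perm.card_fixedPoints_modEq hf
  obtain ⟨k, hk⟩ := (hT.to_subgroup N).exists_card_eq
  have hk0 : k ≠ 0 := by
    rintro rfl
    rw [pow_zero] at hk
    exact hN1 ((Subgroup.card_eq_one).1 hk)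
  have h2 : Fintype.card N % 2 = 0 := by
    rw [← Nat.card_eq_fintype_card, hk]
    obtain ⟨m, rfl⟩ := Nat.exists_eq_succ_of_ne_zero hk0
    rw [pow_succ]; omega
  have h3 : Fintype.card (Function.fixedPoints f) % 2 = 0 := by
    have : Fintype.card N % 2 = Fintype.card (Function.fixedPoints f) % 2 := h1
    omega
  have h4 : 0 < Fintype.card (Function.fixedPoints f) :=
    Fintype.card_pos_iff.2 ⟨⟨1, Subtype.ext (map_one t)⟩⟩
  have h5 : 1 < Fintype.card (Function.fixedPoints f) := by omega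
  obtain ⟨⟨v, hv⟩, hv1⟩ := Fintype.exists_ne_of_one_lt_card h5 ⟨1, Subtype.ext (map_one t)⟩
  refine ⟨v.1, v.2, ?_, congrArg Subtype.val hv⟩
  intro h
  apply hv1
  apply Subtype.ext
  apply Subtype.ext
  exact h

/-- an element of order dividing 3 normalizing a group of order 4 and centralizing a nontrivial element centralizes it -/
theorem R_fixV {G : Type*} [Group G] (V : Subgroup G) (hV : Nat.card V = 4) (ρ : G)
    (hρ3 : ρ * ρ * ρ = 1) (hρn : ρ ∈ Subgroup.normalizer (V : Set G)) (v : G) (hv : v ∈ V) (hv1 : v ≠ 1)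
    (hvρ : ρ * v * ρ⁻¹ = v) : ∀ a ∈ V, ρ * a * ρ⁻¹ = a := by
  classical
  haveI : Finite V := Nat.finite_of_card_ne_zero (by rw [hV]; norm_num)
  haveI := Fintype.ofFinite V
  haveI : Fact (Nat.Prime 3) := ⟨Nat.prime_three⟩
  let φ : MulAut V := V.normalizerMonoidHom ⟨ρ, hρn⟩
  have hφ : ∀ a : V, ((φ a : V) : G) = ρ * a * ρ⁻¹ := fun a => rfl
  let Fx : Subgroup V :=
    { carrier := {a | φ a = a}
      one_mem' := map_one φ
      mul_mem' := fun {a b} ha hb => by
        show φ (a * b) = a * b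
        rw [map_mul, show φ a = a from ha, show φ b = b from hb]
      inv_mem' := fun {a} ha => by
        show φ a⁻¹ = a⁻¹
        rw [map_inv, show φ a = a from ha] }
  let f : Function.End V := fun a => φ a
  have hf : f ^ 3 ^ 1 = 1 := by
    have e : f ^ 3 ^ 1 = f * f * f := by rw [pow_one, pow_succ, pow_succ, pow_one]
    rw [e]
    funext a
    apply Subtype.ext
    show ((φ (φ (φ a)) : V) : G) = a
    rw [hφ, hφ, hφ]
    calc ρ * (ρ * (ρ * (a : G) * ρ⁻¹) * ρ⁻¹) * ρ⁻¹ = (ρ * ρ * ρ) * a * (ρ * ρ * ρ)⁻¹ := by group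
      _ = a := by rw [hρ3]; simp
  have h1 := Equiv.Perm.card_fixedPoints_modEq hf
  have h2 : Nat.card Fx = Fintype.card (Function.fixedPoints f) := by
    rw [Nat.card_eq_fintype_card]
    exact Fintype.card_congr (Equiv.subtypeEquivRight (fun a => Iff.rfl))
  have h3 : Nat.card Fx % 3 = 1 := by
    have : Fintype.card V % 3 = Fintype.card (Function.fixedPoints f) % 3 := h1
    rw [← Nat.card_eq_fintype_card, hV] at this
    rw [h2]; omega
  have h4 : Nat.card Fx ∣ 4 := by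
    have := Subgroup.card_subgroup_dvd_card Fx
    rwa [hV] at this
  have h5 : Nat.card Fx ≠ 1 := by
    intro h
    have hb := (Subgroup.card_eq_one).1 h
    have hm : (⟨v, hv⟩ : V) ∈ Fx := Subtype.ext hvρ
    rw [hb, Subgroup.mem_bot] at hm
    exact hv1 (congrArg Subtype.val hm)
  have h6 : Nat.card Fx = 4 := by
    have hle : Nat.card Fx ≤ 4 := Nat.le_of_dvd (by norm_num) h4
    generalize Nat.card Fx = c at h3 h4 h5 hle ⊢
    interval_cases c <;> omega
  have h7 : Fx = ⊤ := Subgroup.eq_top_of_card_eq Fx (by rw [h6, hV])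
  intro a ha
  have hm : (⟨a, ha⟩ : V) ∈ Fx := by rw [h7]; trivial
  exact congrArg Subtype.val hm

theorem row {G : Type*} [Group G] [Finite G] (T V : Subgroup G) (hT : IsPGroup 2 ↥T) (hVT : V ≤ T ⊓ Subgroup.centralizer (T : Set G)) (hV : Nat.card ↥V = 4 ∧ ∀ v ∈ V, v ^ 2 = 1) (t ρ : G) (ht : orderOf t = 2) (hρ : orderOf ρ = 3) (htn : t ∈ Subgroup.normalizer (V : Set G) ⊓ Subgroup.normalizer (T : Set G)) (hρn : ρ ∈ Subgroup.normalizer (V : Set G) ⊓ Subgroup.normalizer (T : Set G)) (htρ : t * ρ = ρ * t) (htV : t ∈ Subgroup.centralizer (V : Set G)) (hVρ : ⁅V, Subgroup.zpowers ρ⁆ = V) (hCt : T ⊓ Subgroup.centralizer ({t} : Set G) = V) : (Nat.card ↥T = 16 ∧ ∀ x ∈ T, x ^ 2 = 1) ∨ (∃ n : ℕ, 1 ≤ n ∧ Nonempty (↥T ≃* Multiplicative (ZMod (2 ^ n)) × Multiplicative (ZMod (2 ^ n)))) ∨ (∃ (F : Type) (_ : Field F) (_ : Fintype F), Fintype.card F = 4 ∧ ∀ P : Sylow 2 (Matrix.ProjectiveSpecialLinearGroup (Fin 3) F), Nonempty (↥T ≃* ↥(P : Subgroup (Matrix.ProjectiveSpecialLinearGroup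 (Fin 3) F)))) ∨ (∃ (F : Type) (_ : Field F) (_ : Fintype F), Fintype.card F = 16 ∧ ∀ P : Sylow 2 (Cfsg.PSU 3 F 4), Nonempty (↥T ≃* ↥(P : Subgroup (Cfsg.PSU 3 F 4)))) := by
  classical
  haveI : Fact (Nat.Prime 2) := ⟨Nat.prime_two⟩
  let ρ' : MulAut T := T.normalizerMonoidHom ⟨ρ, hρn.2⟩
  let t' : MulAut T := T.normalizerMonoidHom ⟨t, htn.2⟩
  have hρ' : ∀ x : T, ((ρ' x : T) : G) = ρ * x * ρ⁻¹ := fun x => rfl
  have ht' : ∀ x : T, ((t' x : T) : G) = t * x * t⁻¹ := fun x => rfl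
  have hρ3 : ρ * ρ * ρ = 1 := by
    have := pow_orderOf_eq_one ρ
    rw [hρ, pow_succ, pow_succ, pow_one] at this
    exact this
  have ht2 : t * t = 1 := by
    have := pow_orderOf_eq_one t
    rw [ht, pow_succ, pow_one] at this
    exact this
  have htsq : ∀ g, t' (t' g) = g := by
    intro g
    apply Subtype.ext
    rw [ht', ht']
    calc t * (t * (g : G) * t⁻¹) * t⁻¹ = (t * t) * g * (t * t)⁻¹ := by group
      _ = g := by rw [ht2]; simp
  have htρ' : ∀ g, t' (ρ' g) = ρ' (t' g) := by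
    intro g
    apply Subtype.ext
    rw [ht', hρ', hρ', ht']
    calc t * (ρ * (g : G) * ρ⁻¹) * t⁻¹ = (t * ρ) * g * (t * ρ)⁻¹ := by group
      _ = (ρ * t) * g * (ρ * t)⁻¹ := by rw [htρ]
      _ = ρ * (t * (g : G) * t⁻¹) * ρ⁻¹ := by group
  have hfixV : ∀ g : T, t' g = g ↔ (g : G) ∈ V := by
    intro g
    rw [← hCt, Subgroup.mem_inf, Subgroup.mem_centralizer_iff]
    constructor
    · intro h
      refine ⟨g.2, ?_⟩
      intro k hk
      rw [Set.mem_singleton_iff] at hk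
      subst hk
      have h1 : k * (g : G) * k⁻¹ = g := by rw [← ht', h]
      exact mul_inv_eq_iff_eq_mul.1 h1
    · rintro ⟨-, h⟩
      apply Subtype.ext
      rw [ht']
      exact mul_inv_eq_iff_eq_mul.2 (h t rfl)
  have hyp : Hyp ρ' t' := by
    refine ⟨?_, ?_, htsq, htρ', ?_⟩
    · intro g
      apply Subtype.ext
      rw [hρ', hρ', hρ']
      calc ρ * (ρ * (ρ * (g : G) * ρ⁻¹) * ρ⁻¹) * ρ⁻¹ = (ρ * ρ * ρ) * g * (ρ * ρ * ρ)⁻¹ := by group
        _ = g := by rw [hρ3]; simp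
    · intro g hg
      by_contra hg1
      let C : Subgroup T :=
        { carrier := {a | ρ' a = a}
          one_mem' := map_one ρ'
          mul_mem' := fun {a b} ha hb => by
            show ρ' (a * b) = a * b
            rw [map_mul, show ρ' a = a from ha, show ρ' b = b from hb]
          inv_mem' := fun {a} ha => by
            show ρ' a⁻¹ = a⁻¹
            rw [map_inv, show ρ' a = a from ha] }
      have hC1 : C ≠ ⊥ := by
        intro h
        have hm : g ∈ C := hg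
        rw [h, Subgroup.mem_bot] at hm
        exact hg1 hm
      have hCt' : ∀ a ∈ C, t' a ∈ C := by
        intro a ha
        show ρ' (t' a) = t' a
        rw [← htρ', show ρ' a = a from ha]
      obtain ⟨v, hvC, hv1, hvt⟩ := R_fp hT t' htsq C hCt' hC1
      have hvV : (v : G) ∈ V := (hfixV v).1 hvt
      have hvρ : ρ * (v : G) * ρ⁻¹ = v := by rw [← hρ', show ρ' v = v from hvC]
      have hall := R_fixV V hV.1 ρ hρ3 hρn.1 v hvV (fun h => hv1 (Subtype.ext h)) hvρ
      have hbot : ⁅V, Subgroup.zpowers ρ⁆ = ⊥ := by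
        rw [Subgroup.commutator_eq_bot_iff_le_centralizer]
        intro a ha
        rw [Subgroup.mem_centralizer_iff]
        intro k hk
        obtain ⟨m, rfl⟩ := Subgroup.mem_zpowers_iff.1 hk
        have hc : Commute ρ a := mul_inv_eq_iff_eq_mul.1 (hall a ha)
        exact (hc.zpow_left m)
      rw [hbot] at hVρ
      have := hV.1
      rw [← hVρ, Subgroup.card_bot] at this
      norm_num at this
    · rw [← hV.1]
      exact Nat.card_congr
        { toFun := fun g => ⟨g.1.1, (hfixV g.1).1 g.2⟩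
          invFun := fun v => ⟨⟨v.1, (hVT v.2).1⟩, (hfixV _).2 v.2⟩
          left_inv := fun g => rfl
          right_inv := fun v => rfl }
  letI : Fintype (GaloisField 2 4) := Fintype.ofFinite _
  haveI hF1 : Fact (Fintype.card (GaloisField 2 4) = 4 ^ 2) := ⟨by
    rw [← Nat.card_eq_fintype_card, GaloisField.card 2 4 (by norm_num)]; norm_num⟩
  haveI hF2 : Fact ((2 : GaloisField 2 4) = 0) := ⟨by
    have := CharP.cast_eq_zero (GaloisField 2 4) 2
    exact_mod_cast this⟩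
  rcases abs (F := GaloisField 2 4) hT ρ' t' hyp with h1 | h1 | ⟨⟨e⟩⟩ | ⟨⟨e⟩⟩
  · left
    exact ⟨h1.1, fun x hx => congrArg Subtype.val (h1.2 ⟨x, hx⟩)⟩
  · right; left
    exact h1
  · right; right; left
    refine ⟨K4, inferInstance, inferInstance, K4.card_eq, fun P => ?_⟩
    obtain ⟨f, hf⟩ := Cfsg.Agent.Lib.Helper47.T64.exists_inj_PSL
    obtain ⟨S₀, ⟨e0⟩⟩ := Cfsg.Agent.Lib.Helper47.T64.exists_sylow_iso 2 6 315
      Cfsg.Agent.Lib.Helper47.T64.card_psl (by norm_num)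
      (by rw [Cfsg.Agent.Lib.Helper47.T64.card_heis]; norm_num) f hf
    obtain ⟨g, rfl⟩ := MulAction.exists_smul_eq
      (Matrix.ProjectiveSpecialLinearGroup (Fin 3) K4) S₀ P
    exact ⟨(e.trans e0).trans (Sylow.equivSMul S₀ g)⟩
  · right; right; right
    refine ⟨GaloisField 2 4, inferInstance, inferInstance, by rw [hF1.out]; norm_num, fun P => ?_⟩
    obtain ⟨e1⟩ := Cfsg.Agent.Lib.Helper20.U3Syl.exists_equiv (by decide : Even 4) P
    exact ⟨e.trans e1⟩

end Cfsg.Agent.Lib.Helper47.T2933
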